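import Mathlib

/-!
Lucido's three primes lemma for normal series.
-/

namespace Cfsg.Agent.PrimeGraph

open Subgroup

/-- A Frobenius group `B⟨x⟩` cannot act fixed-point-freely: if `x` and the nontrivial elements
act without fixed points then `v ^ |B| = 1`. -/
theorem pow_card_eq_one_of_frobenius {E A : Type*} [Group E] [CommGroup A] (φ : E →* MulAut A)
    (B : Subgroup E) [Finite B] (x : E) {r : ℕ} (hr : 0 < r) (hxr : x ^ r = 1)
    (hxB : ∀ b ∈ B, x * b * x⁻¹ ∈ B)
    (hfree : ∀ i, 0 < i → i < r → ∀ b ∈ B, Commute (x ^ i) b → b = 1)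
    (hC : ∀ v, (∀ b ∈ B, φ b v = v) → v = 1) (hfix : ∀ v, φ x v = v → v = 1) (v : A) :
    v ^ Nat.card B = 1 := by
  have := Fintype.ofFinite B
  have hpowB : ∀ i : ℕ, ∀ b ∈ B, x ^ i * b * (x ^ i)⁻¹ ∈ B := by
    intro i
    induction i with
    | zero => simp
    | succ i ih =>
      intro b hb
      have := hxB _ (ih b hb)
      convert this using 1
      rw [pow_succ', mul_inv_rev]
      group
  have hcomp : ∀ (a b : E) (w : A), φ a (φ b w) = φ (a * b) w := fun a b w => by
    rw [map_mul]; rfl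
  have hC' : ∀ w : A, ∏ b : B, φ b w = 1 := fun w => by
    refine hC _ fun c hc => ?_
    simp only [map_prod, hcomp]
    exact Fintype.prod_bijective (fun b : B => (⟨c, hc⟩ : B) * b) (Group.mulLeft_bijective _)
      (fun b : B => φ (c * b) w) (fun b : B => φ b w) fun b => rfl
  have horb : ∀ w : A, ∏ i ∈ Finset.range r, φ (x ^ i) w = 1 := fun w => by
    refine hfix _ ?_
    simp only [map_prod, hcomp, ← pow_succ']
    obtain ⟨r', rfl⟩ := Nat.exists_eq_add_of_le' (show 1 ≤ r from hr)
    have h1 := Finset.prod_range_succ' (fun i => φ (x ^ i) w) r'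
    rw [Finset.prod_range_succ, h1, hxr, pow_zero]
  have key : ∏ i ∈ Finset.range r, ∏ b : B, φ ((b : E) * x ^ i * (b : E)⁻¹) v = 1 := by
    rw [Finset.prod_comm]
    refine Finset.prod_eq_one fun b _ => ?_
    have h1 := congrArg (φ (b : E)) (horb (φ (b : E)⁻¹ v))
    rw [map_prod, map_one] at h1
    simpa only [hcomp, ← mul_assoc] using h1
  obtain ⟨r', rfl⟩ := Nat.exists_eq_add_of_le' (show 1 ≤ r from hr)
  rw [Finset.prod_range_succ', Finset.prod_eq_one fun i hi => ?_, one_mul] at key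
  · simpa [Finset.card_univ] using key
  · let f : B → B := fun b => ⟨(b : E) * (x ^ (i + 1) * (b : E)⁻¹ * (x ^ (i + 1))⁻¹),
      B.mul_mem b.2 (hpowB _ _ (B.inv_mem b.2))⟩
    have hf : Function.Bijective f := by
      refine Finite.injective_iff_bijective.mp fun a b hab => ?_
      have h1 : (a : E) * x ^ (i + 1) * (a : E)⁻¹ = (b : E) * x ^ (i + 1) * (b : E)⁻¹ := by
        have h2 := congrArg (fun t : B => (t : E) * x ^ (i + 1)) hab
        simpa [f, mul_assoc] using h2
      have h3 : Commute (x ^ (i + 1)) ((b : E)⁻¹ * a) := by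
        calc x ^ (i + 1) * ((b : E)⁻¹ * a)
            = (b : E)⁻¹ * ((b : E) * x ^ (i + 1) * (b : E)⁻¹) * a := by group
          _ = (b : E)⁻¹ * ((a : E) * x ^ (i + 1) * (a : E)⁻¹) * a := by rw [h1]
          _ = (b : E)⁻¹ * a * x ^ (i + 1) := by group
      exact Subtype.ext (inv_mul_eq_one.mp (hfree (i + 1) (Nat.succ_pos i)
        (Nat.succ_lt_succ (Finset.mem_range.mp hi)) _ (B.mul_mem (B.inv_mem b.2) a.2) h3)).symm
    rw [← hC' (φ (x ^ (i + 1)) v)]
    refine Fintype.prod_bijective f hf _ _ fun b => ?_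
    simp only [f, hcomp]
    congr 2
    group

/-- For a `p`-subgroup, the elements of exponent `p` of its centre. -/
theorem exists_elementary {G : Type*} [Group G] [Finite G] {p : ℕ} [hp : Fact p.Prime]
    (P : Subgroup G) (hP : IsPGroup p P) (hne : P ≠ ⊥) :
    ∃ A : Subgroup G, IsMulCommutative A ∧ A ≠ ⊥ ∧ A ≤ P ∧ (∀ a ∈ A, a ^ p = 1) ∧
      normalizer (P : Set G) ≤ normalizer (A : Set G) := by
  have : Nontrivial P := (nontrivial_iff_ne_bot P).mpr hne
  have hz := hP.center_nontrivial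
  have hmem : ∀ a : G, (a ∈ P ∧ (∀ b ∈ P, b * a = a * b) ∧ a ^ p = 1) →
      ∀ b : G, (b ∈ P ∧ (∀ c ∈ P, c * b = b * c) ∧ b ^ p = 1) →
      a * b ∈ P ∧ (∀ c ∈ P, c * (a * b) = a * b * c) ∧ (a * b) ^ p = 1 := by
    intro a ha b hb
    refine ⟨P.mul_mem ha.1 hb.1, fun c hc => ?_, ?_⟩
    · rw [← mul_assoc, ha.2.1 c hc, mul_assoc, hb.2.1 c hc, mul_assoc]
    · rw [(show Commute a b from (ha.2.1 b hb.1).symm).mul_pow, ha.2.2, hb.2.2, one_mul]
  let A : Subgroup G :=
    { carrier := {a | a ∈ P ∧ (∀ b ∈ P, b * a = a * b) ∧ a ^ p = 1}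
      one_mem' := ⟨P.one_mem, fun b _ => by simp, one_pow p⟩
      mul_mem' := fun {a b} ha hb => hmem a ha b hb
      inv_mem' := fun {a} ha => ⟨P.inv_mem ha.1, fun b hb => (show Commute b a from ha.2.1 b hb).inv_right.eq,
        by rw [inv_pow, ha.2.2, inv_one]⟩ }
  refine ⟨A, ⟨⟨fun a b => Subtype.ext (b.2.2.1 a a.2.1)⟩⟩, ?_, fun a ha => ha.1,
    fun a ha => ha.2.2, fun g hg => mem_normalizer_iff.mpr fun a => ?_⟩
  · obtain ⟨z, hz⟩ : ∃ z : center P, orderOf z = p := exists_prime_orderOf_dvd_card' p <| by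
      obtain ⟨k, hk⟩ := (hP.to_subgroup (center P)).exists_card_eq
      rw [hk]
      exact dvd_pow_self p (by rintro rfl; exact absurd hk (Finite.one_lt_card_iff_nontrivial.mpr hz).ne')
    intro h
    have hzA : ((z : P) : G) ∈ A := by
      refine ⟨(z : P).2, fun b hb => congrArg Subtype.val (mem_center_iff.mp z.2 ⟨b, hb⟩), ?_⟩
      rw [← hz, ← Subgroup.coe_pow, ← Subgroup.coe_pow, pow_orderOf_eq_one]
      rfl
    rw [h, mem_bot] at hzA
    have : z = 1 := Subtype.ext (Subtype.ext hzA)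
    rw [this, orderOf_one] at hz
    exact hp.out.one_lt.ne hz
  · have hgP := mem_normalizer_iff.mp hg
    refine and_congr (hgP a) (and_congr ?_ (by rw [conj_pow, conj_eq_one_iff]))
    constructor
    · intro h b hb
      have hb' : g⁻¹ * b * g ∈ P := (hgP _).mpr (by convert hb using 1; group)
      have := congrArg (fun t => g * t * g⁻¹) (h _ hb')
      simpa [mul_assoc] using this
    · intro h b hb
      have := congrArg (fun t => g⁻¹ * t * g) (h _ ((hgP b).mp hb))
      simpa [mul_assoc] using this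

/-- Lucido's three primes lemma. -/
theorem three_primes {G : Type*} [Group G] [Finite G] (K M : Subgroup G) [K.Normal] [M.Normal]
    (hKM : K ≤ M) (p q r : ℕ) (hp : p.Prime) (hq : q.Prime) (hr : r.Prime) (hpq : p ≠ q)
    (hpr : p ≠ r) (hqr : q ≠ r) (hpK : p ∣ Nat.card K) (hqM : q ∣ K.relIndex M)
    (hrG : r ∣ M.index) :
    (∃ x : G, orderOf x = p * q) ∨ (∃ x : G, orderOf x = p * r) ∨ ∃ x : G, orderOf x = q * r := by
  by_contra hcon
  simp only [not_or, not_exists] at hcon
  have := Fact.mk hp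
  have := Fact.mk hq
  have := Fact.mk hr
  have hnc : ∀ {s t : ℕ} {a b : G}, s ≠ t → (∀ z : G, orderOf z ≠ s * t) → s.Prime → t.Prime →
      orderOf a = s → orderOf b = t → ¬ Commute a b := by
    intro s t a b hst h hs ht ha hb hab
    refine h (a * b) ?_
    rw [hab.orderOf_mul_eq_mul_orderOf_of_coprime (by rw [ha, hb]; exact (Nat.coprime_primes hs ht).mpr hst),
      ha, hb]
  obtain ⟨P⟩ : Nonempty (Sylow p K) := inferInstance
  set P' := (P : Subgroup K).map K.subtype with hP'
  set N := normalizer (P' : Set G) with hN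
  have hNK : N ⊔ K = ⊤ := Sylow.normalizer_sup_eq_top P
  have hqL : q ∣ Nat.card (M ⊓ N : Subgroup G) := by
    have h1 : M ⊓ N ⊔ K = M := by
      refine le_antisymm (sup_le inf_le_left hKM) fun m hm => ?_
      have hm' : m ∈ N ⊔ K := by rw [hNK]; exact mem_top m
      obtain ⟨n, hn, k, hk, rfl⟩ := mem_sup_of_normal_right.mp hm'
      refine mul_mem_sup ⟨?_, hn⟩ hk
      have := M.mul_mem hm (M.inv_mem (hKM hk))
      rwa [mul_inv_cancel_right] at this
    have h2 : K.relIndex M = K.relIndex (M ⊓ N) := by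
      conv_lhs => rw [← h1]
      exact relIndex_sup_right _ _
    exact (h2 ▸ hqM).trans (relIndex_dvd_card _ _)
  obtain ⟨Q⟩ : Nonempty (Sylow q ((M ⊓ N : Subgroup G).subgroupOf N)) := inferInstance
  set L := (M ⊓ N : Subgroup G).subgroupOf N with hL
  have hLn : L.Normal := by
    rw [hL, inf_subgroupOf_right]
    infer_instance
  set Q' := (Q : Subgroup L).map L.subtype with hQ'
  have hQ1 : Q' ≠ ⊥ := fun h => by
    rw [hQ', map_eq_bot_iff_of_injective _ (subtype_injective L)] at h
    exact Q.ne_bot_of_dvd_card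
      (by rw [Nat.card_congr (subgroupOfEquivOfLe inf_le_right).toEquiv]; exact hqL) h
  have hrN : r ∣ Nat.card (normalizer (Q' : Set N)) := by
    have h1 : normalizer (Q' : Set N) ⊔ L = ⊤ := Sylow.normalizer_sup_eq_top Q
    have h2 : L.index = M.relIndex N := by rw [hL, inf_subgroupOf_right, relIndex]
    have h3 : M.index = M.relIndex N := by
      have : N ⊔ M = ⊤ := eq_top_iff.mpr (hNK ▸ sup_le_sup_left hKM N)
      rw [← relIndex_sup_right, this, relIndex_top_right]
    have h4 : L.index = L.relIndex (normalizer (Q' : Set N)) := by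
      rw [← relIndex_sup_right, h1, relIndex_top_right]
    exact (h3.trans (h2.symm.trans h4) ▸ hrG).trans (relIndex_dvd_card _ _)
  obtain ⟨x, hx⟩ := exists_prime_orderOf_dvd_card' r hrN
  obtain ⟨B, hBc, hB1, hBQ, hBq, hBn⟩ := exists_elementary (p := q) Q' (Q.2.map _) hQ1
  have hP1 : P' ≠ ⊥ := fun h => by
    rw [hP', map_eq_bot_iff_of_injective _ (subtype_injective K)] at h
    exact P.ne_bot_of_dvd_card hpK h
  obtain ⟨A, hAc, hA1, hAP, hAp, hAn⟩ := exists_elementary (p := p) P' (P.2.map _) hP1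
  let ι : N →* normalizer (A : Set G) := inclusion hAn
  let φ : N →* MulAut A := (normalizerMonoidHom A).comp ι
  have hxord : orderOf ((x : N) : G) = r := by rw [orderOf_coe, orderOf_coe, hx]
  have hφ : ∀ (g : N) (a : A), φ g a = a → Commute (g : G) a := fun g a h => by
    have h' : (g : G) * a * (g : G)⁻¹ = a := congrArg Subtype.val h
    exact (mul_inv_eq_iff_eq_mul.mp h')
  have hordA : ∀ a : A, a ≠ 1 → orderOf (a : G) = p := fun a ha =>
    orderOf_eq_prime (hAp a a.2) fun h => ha (Subtype.ext h)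
  open scoped IsMulCommutative in
  have key : ∀ v : A, v = 1 := by
    intro v
    have hv := pow_card_eq_one_of_frobenius φ B (x : N) (r := r) hr.pos
      (by rw [← hx, ← Subgroup.orderOf_coe x, pow_orderOf_eq_one])
      (fun b hb => (mem_normalizer_iff.mp (hBn x.2) b).mp hb) ?_ ?_ ?_ v
    · have hBp : IsPGroup q B := fun b => ⟨1, Subtype.ext (by simpa using hBq b b.2)⟩
      obtain ⟨k, hk⟩ := hBp.exists_card_eq
      rw [hk] at hv
      by_contra hv1
      have hdvd := orderOf_dvd_of_pow_eq_one hv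
      rw [← orderOf_coe v, hordA v hv1] at hdvd
      exact hpq ((Nat.prime_dvd_prime_iff_eq hp hq).mp (hp.dvd_of_dvd_pow hdvd))
    · intro i hi hir b hb hcom
      by_contra hb1
      have hbord : orderOf ((b : N) : G) = q := by
        rw [orderOf_coe]; exact orderOf_eq_prime (hBq b hb) hb1
      refine hnc hqr (hcon.2.2) hq hr hbord
        (show orderOf ((((x : N) ^ i : N)) : G) = r by
          rw [orderOf_coe, orderOf_pow' _ hi.ne', Subgroup.orderOf_coe, hx,
            Nat.coprime_iff_gcd_eq_one.mp ((Nat.Prime.coprime_iff_not_dvd hr).mpr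
              (Nat.not_dvd_of_pos_of_lt hi hir)), Nat.div_one])
        (hcom.symm.map N.subtype)
    · intro a ha
      by_contra ha1
      obtain ⟨b, hb, hb1⟩ := B.bot_or_exists_ne_one.resolve_left hB1
      have hbord : orderOf ((b : N) : G) = q := by
        rw [orderOf_coe]; exact orderOf_eq_prime (hBq b hb) hb1
      exact hnc hpq hcon.1 hp hq (hordA a ha1) hbord (hφ b a (ha b hb)).symm
    · intro a ha
      by_contra ha1
      exact hnc hpr hcon.2.1 hp hr (hordA a ha1) hxord (hφ x a ha).symm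
  exact hA1 (eq_bot_iff.mpr fun a ha => mem_bot.mpr (congrArg Subtype.val (key ⟨a, ha⟩)))

/-- In a solvable group no three primes are pairwise non-adjacent in the prime graph; for a
solvable normal subgroup `K`, at most one prime of such a set divides `|K|`. -/
theorem coclique_solvable_normal {G : Type*} [Group G] [Finite G] (ρ : Finset ℕ) (hρ : 3 ≤ ρ.card)
    (hprime : ∀ r ∈ ρ, r.Prime ∧ r ∣ Nat.card G)
    (hc : ∀ r ∈ ρ, ∀ s ∈ ρ, r ≠ s → ¬ ∃ x : G, orderOf x = r * s)
    (K : Subgroup G) [K.Normal] (hK : Group.IsSolvable K) :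
    ∀ r ∈ ρ, ∀ s ∈ ρ, r ∣ Nat.card K → s ∣ Nat.card K → r = s := by
  classical
  let D : ℕ → Subgroup G := fun i => (derivedSeries K i).map K.subtype
  have hDn : ∀ i, (D i).Normal := fun i => by
    have : (derivedSeries K i).Characteristic := derivedSeries_characteristic K i
    exact ConjAct.normal_of_characteristic_of_normal
  have hDmono : ∀ i, D (i + 1) ≤ D i := fun i =>
    map_mono ((derivedSeries_antitone K) (Nat.le_succ i))
  let two : ℕ → Prop := fun i => ∃ r ∈ ρ, ∃ s ∈ ρ, r ≠ s ∧ r ∣ Nat.card (D i) ∧ s ∣ Nat.card (D i)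
  intro r hr s hs hrK hsK
  by_contra hrs
  have h0 : two 0 := by
    have : D 0 = K := by simp [D, ← MonoidHom.range_eq_map]
    exact ⟨r, hr, s, hs, hrs, by rwa [this], by rwa [this]⟩
  obtain ⟨n, hn⟩ := hK.solvable
  have hDn0 : ¬ two n := by
    rintro ⟨r, hr, s, hs, hrs, h1, -⟩
    have : D n = ⊥ := by simp only [D, hn, Subgroup.map_bot]
    rw [this, card_bot, Nat.dvd_one] at h1
    exact (hprime r hr).1.ne_one h1
  obtain ⟨j, hj, hj'⟩ : ∃ j, two j ∧ ¬ two (j + 1) := by
    by_contra! h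
    have : ∀ i, two i := fun i => by
      induction i with
      | zero => exact h0
      | succ i ih => exact h i ih
    exact hDn0 (this n)
  obtain ⟨a, ha, b, hb, hab, haD, hbD⟩ := hj
  have := hDn (j + 1)
  have := hDn j
  have hsec : ∀ a ∈ ρ, ∀ b ∈ ρ, a ∣ (D (j + 1)).relIndex (D j) → b ∣ (D (j + 1)).relIndex (D j) →
      a = b := by
    intro a ha b hb ha' hb'
    by_contra hne
    have := Fact.mk (hprime a ha).1
    have := Fact.mk (hprime b hb).1
    obtain ⟨u, hu⟩ := exists_prime_orderOf_dvd_card' a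
      (G := D j ⧸ (D (j + 1)).subgroupOf (D j)) ha'
    obtain ⟨w, hw⟩ := exists_prime_orderOf_dvd_card' b
      (G := D j ⧸ (D (j + 1)).subgroupOf (D j)) hb'
    have hcomm : Commute u w := by
      obtain ⟨u, rfl⟩ := QuotientGroup.mk_surjective u
      obtain ⟨w, rfl⟩ := QuotientGroup.mk_surjective w
      refine commutatorElement_eq_one_iff_commute.mp ?_
      rw [← QuotientGroup.mk'_apply, ← QuotientGroup.mk'_apply, ← map_commutatorElement,
        QuotientGroup.mk'_apply, QuotientGroup.eq_one_iff, mem_subgroupOf]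
      obtain ⟨u', hu', hue⟩ := u.2
      obtain ⟨w', hw', hwe⟩ := w.2
      refine ⟨u' * w' * u'⁻¹ * w'⁻¹, ?_, ?_⟩
      · rw [SetLike.mem_coe, derivedSeries_succ, ← commutatorElement_def]
        exact commutator_mem_commutator hu' hw'
      · rw [← commutatorElement_def, map_commutatorElement, hue, hwe]
        exact (map_commutatorElement (D j).subtype u w).symm
    have horder : orderOf (u * w) = a * b := by
      rw [hcomm.orderOf_mul_eq_mul_orderOf_of_coprime (by
        rw [hu, hw]; exact (Nat.coprime_primes (hprime a ha).1 (hprime b hb).1).mpr hne), hu, hw]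
    obtain ⟨g, hg⟩ := QuotientGroup.mk_surjective (u * w)
    refine hc a ha b hb hne ⟨(g : G) ^ (orderOf (g : G) / (a * b)),
      orderOf_pow_orderOf_div (orderOf_pos _).ne' ?_⟩
    rw [orderOf_coe, ← horder, ← hg]
    exact orderOf_map_dvd (QuotientGroup.mk' _) g
  have hmul : Nat.card (D (j + 1)) * (D (j + 1)).relIndex (D j) = Nat.card (D j) := by
    rw [← relIndex_bot_left, ← relIndex_bot_left,
      relIndex_mul_relIndex _ _ _ bot_le (hDmono j)]
  obtain ⟨p, hp, hpD, q, hq, hqD, hpq⟩ : ∃ p ∈ ρ, p ∣ Nat.card (D (j + 1)) ∧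
      ∃ q ∈ ρ, q ∣ (D (j + 1)).relIndex (D j) ∧ p ≠ q := by
    rcases (hprime a ha).1.dvd_mul.mp (hmul ▸ haD) with h1 | h1 <;>
      rcases (hprime b hb).1.dvd_mul.mp (hmul ▸ hbD) with h2 | h2
    · exact absurd ⟨a, ha, b, hb, hab, h1, h2⟩ hj'
    · exact ⟨a, ha, h1, b, hb, h2, hab⟩
    · exact ⟨b, hb, h2, a, ha, h1, hab.symm⟩
    · exact absurd (hsec a ha b hb h1 h2) hab
  obtain ⟨t, htρ, htp, htq⟩ : ∃ t ∈ ρ, t ≠ p ∧ t ≠ q := by
    by_contra! h
    have : ρ ⊆ {p, q} := fun t ht => by
      rw [Finset.mem_insert, Finset.mem_singleton]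
      exact or_iff_not_imp_left.mpr (h t ht)
    exact absurd ((Finset.card_le_card this).trans Finset.card_le_two) (by omega)
  have htD : ¬ t ∣ Nat.card (D j) := by
    intro h
    rcases (hprime t htρ).1.dvd_mul.mp (hmul ▸ h) with h' | h'
    · exact hj' ⟨t, htρ, p, hp, htp, h', hpD⟩
    · exact htq (hsec t htρ q hq h' hqD)
  have htG : t ∣ (D j).index := by
    have h := (hprime t htρ).2
    rw [← card_mul_index (D j)] at h
    exact ((hprime t htρ).1.dvd_mul.mp h).resolve_left htD
  rcases three_primes (D (j + 1)) (D j) (hDmono j) p q t (hprime p hp).1 (hprime q hq).1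
    (hprime t htρ).1 hpq htp.symm htq.symm hpD hqD htG with h | h | h
  · exact hc p hp q hq hpq h
  · exact hc p hp t htρ htp.symm h
  · exact hc q hq t htρ htq.symm h

end Cfsg.Agent.PrimeGraph
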