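import Cfsg.Agent.PrimeGraph.SpOmega

/-!
# Orders `r * s` in symplectic and odd orthogonal groups
-/

set_option autoImplicit false

namespace Cfsg.Agent.PrimeGraph

open Module QuadraticMap
open Cfsg.Agent.Classical Cfsg.Agent.Classical.Quad

universe u

variable {F : Type u} [Field F] [Finite F] {V W V' W' : Type u} [AddCommGroup V] [Module F V] [AddCommGroup W] [Module F W]
  [AddCommGroup V'] [Module F V'] [AddCommGroup W'] [Module F W'] [FiniteDimensional F V] [FiniteDimensional F W]
  [FiniteDimensional F V'] [FiniteDimensional F W']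

omit [Finite F] in
/-- Alternating forms of equal rank have isomorphic groups. -/
theorem isoGroup_iso {A : LinearMap.BilinForm F V} {A' : LinearMap.BilinForm F V'} (hA : A.IsAlt) (hA0 : A.Nondegenerate)
    (hA' : A'.IsAlt) (hA0' : A'.Nondegenerate) (hdim : finrank F V = finrank F V') :
    Nonempty (Alt.isoGroup A ≃* Alt.isoGroup A') := by
  obtain ⟨m, k, b, h1, h3, h4, h5⟩ := Alt.exists_basis_symp hA
  obtain ⟨m', k', b', h1', h3', h4', h5'⟩ := Alt.exists_basis_symp hA'
  have hk : k = 0 := by
    by_contra hk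
    exact b.ne_zero (Sum.inr ⟨0, by omega⟩) (hA0.1 _ (h5 _))
  have hk' : k' = 0 := by
    by_contra hk'
    exact b'.ne_zero (Sum.inr ⟨0, by omega⟩) (hA0'.1 _ (h5' _))
  subst hk hk'
  rw [finrank_eq_card_basis b, finrank_eq_card_basis b'] at hdim
  simp only [Fintype.card_sum, Fintype.card_fin, add_zero] at hdim
  obtain rfl : m = m' := by omega
  set e : V ≃ₗ[F] V' := b.equiv b' (Equiv.refl _) with he
  have hb : ∀ i, e (b i) = b' i := fun i => by simp [e]
  have heq : A'.comp e.toLinearMap e.toLinearMap = A := by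
    refine LinearMap.BilinForm.ext_basis b fun i j => ?_
    rw [LinearMap.BilinForm.comp_apply, LinearEquiv.coe_coe, hb, hb]
    rcases i with (i | i) | i
    · rcases j with (j | j) | j
      · rw [h3, h3']
      · rw [h1, h1']
      · exact j.elim0
    · rcases j with (j | j) | j
      · rw [Alt.neg' hA (b (Sum.inl (Sum.inl j))), h1, Alt.neg' hA' (b' (Sum.inl (Sum.inl j))), h1']
      · rw [h4, h4']
      · exact j.elim0
    · exact i.elim0
  have he' : ∀ x y, A' (e x) (e y) = A x y := fun x y => LinearMap.congr_fun (LinearMap.congr_fun heq x) y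
  refine ⟨{ toFun := fun g => ⟨e.symm.trans (g.1.trans e), fun x y => ?_⟩
            invFun := fun g => ⟨e.trans (g.1.trans e.symm), fun x y => ?_⟩
            left_inv := fun g => Subtype.ext (LinearEquiv.ext fun x => by simp)
            right_inv := fun g => Subtype.ext (LinearEquiv.ext fun x => by simp)
            map_mul' := fun g h => Subtype.ext (LinearEquiv.ext fun x => by simp [LinearEquiv.mul_apply]) }⟩
  · simp only [LinearEquiv.trans_apply]
    rw [he', g.2, ← he', LinearEquiv.apply_symm_apply, LinearEquiv.apply_symm_apply]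
  · simp only [LinearEquiv.trans_apply]
    rw [← he', LinearEquiv.apply_symm_apply, LinearEquiv.apply_symm_apply, g.2, he']

omit [Finite F] [FiniteDimensional F V] in
theorem oG_smul {Q : QuadraticForm F V} {c : F} (hc : c ≠ 0) : oG (c • Q) = oG Q := by
  ext g
  exact forall_congr' fun x => by
    simp only [QuadraticMap.smul_apply, smul_eq_mul]
    exact mul_right_inj' hc

/-- Odd-dimensional forms of equal rank have isomorphic groups. -/
theorem oG_iso {Q : QuadraticForm F V} {Q' : QuadraticForm F V'} (hQ : (polarBilin Q).Nondegenerate)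
    (hQ' : (polarBilin Q').Nondegenerate) {n : ℕ} (h : finrank F V = 2 * n + 1) (h' : finrank F V' = 2 * n + 1) :
    Nonempty (oG Q ≃* oG Q') := by
  obtain ⟨c, hc, -, e, he⟩ := odd_case hQ h
  obtain ⟨c', hc', -, e', he'⟩ := odd_case hQ' h'
  have hl : c' / c ≠ 0 := div_ne_zero hc' hc
  let D : (((Fin n → F) × (Fin n → F)) × F) ≃ₗ[F] (((Fin n → F) × (Fin n → F)) × F) :=
    LinearEquiv.prodCongr (LinearEquiv.prodCongr (LinearEquiv.smulOfUnit (Units.mk0 _ hl)) (LinearEquiv.refl F _))
      (LinearEquiv.refl F _)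
  have hD : ∀ x, hyp (c' • sqForm F) n (D x) = ((c' / c) • hyp (c • sqForm F) n) x := fun x => by
    rw [QuadraticMap.smul_apply, hyp_apply, hyp_apply, smul_eq_mul, mul_add, Finset.mul_sum]
    simp [D, LinearEquiv.smulOfUnit, Units.smul_def, mul_assoc]
    field_simp
  exact ⟨(oCongr e he).symm.trans ((MulEquiv.subgroupCongr (oG_smul hl).symm).trans
    ((oCongr D hD).trans (oCongr e' he')))⟩

omit [Finite F] [FiniteDimensional F V] [FiniteDimensional F V'] in
theorem commutator_of_equiv {Q : QuadraticForm F V} {Q' : QuadraticForm F V'} (e : oG Q ≃* oG Q') {m : ℕ}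
    (h : ∃ u ∈ commutator (oG Q), orderOf u = m) : ∃ u ∈ commutator (oG Q'), orderOf u = m := by
  obtain ⟨u, hu, hm⟩ := h
  refine ⟨e u, ?_, by rw [MulEquiv.orderOf_eq, hm]⟩
  have h1 : (commutator (oG Q)).map e.toMonoidHom = commutator (oG Q') := by
    rw [commutator_def, commutator_def, Subgroup.map_commutator, Subgroup.map_top_of_surjective e.toMonoidHom e.surjective]
  rw [← h1]
  exact ⟨u, hu, rfl⟩

/-- Extension by the identity on a line. -/
def liftP (V : Type u) [AddCommGroup V] [Module F V] : Module.End F V →* Module.End F (V × F) where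
  toFun g := g.prodMap LinearMap.id
  map_one' := LinearMap.ext fun _ => rfl
  map_mul' _ _ := LinearMap.ext fun _ => rfl

omit [Finite F] [FiniteDimensional F V] in
theorem liftP_injective : Function.Injective (liftP (F := F) V) := fun g h e =>
  LinearMap.ext fun x => congrArg Prod.fst (LinearMap.congr_fun e (x, 0))

omit [Finite F] [FiniteDimensional F V] in
theorem orderOf_S_N {G : Type*} [Group G] {x : G} {r s : ℕ} (hx : orderOf x = r * s) (hr : r ≠ 0) (hs : s ≠ 0) :
    orderOf (x ^ s) = r ∧ orderOf (x ^ r) = s := by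
  refine ⟨?_, ?_⟩
  · rw [orderOf_pow_of_dvd hs (hx ▸ dvd_mul_left s r), hx, Nat.mul_div_cancel _ (Nat.pos_of_ne_zero hs)]
  · rw [orderOf_pow_of_dvd hr (hx ▸ dvd_mul_right r s), hx, Nat.mul_div_cancel_left _ (Nat.pos_of_ne_zero hr)]

section split

variable {B : LinearMap.BilinForm F V} {S P N : Module.End F V}

omit [Finite F] [FiniteDimensional F V] in
/-- `N` cut down to the moved space. -/
theorem split_props (hP : IsAvg B S P) (hN : Pres B N) (hNS : Commute N S) :
    Pres B (N * (1 - P) + P) ∧ Commute (N * (1 - P) + P) S ∧ (∀ x, S x = x → (N * (1 - P) + P) x = x) ∧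
      ∀ (k : ℕ) x, ((N * (1 - P) + P) ^ k) x = (N ^ k) (x - P x) + P x := by
  have hNP := hP.comm N hNS
  have hPP : ∀ x, P (P x) = P x := fun x => hP.of_fix _ (hP.fixes x)
  have hg : ∀ x, (N * (1 - P) + P) x = N (x - P x) + P x := fun x => rfl
  have h0 : ∀ x, P (N (x - P x)) = 0 := fun x => by
    rw [← Module.End.mul_apply, ← hNP.eq, Module.End.mul_apply, map_sub, hPP, sub_self, map_zero]
  have hPS : Commute P S := LinearMap.ext fun x => by
    rw [Module.End.mul_apply, Module.End.mul_apply, hP.absorb, hP.fixes]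
  refine ⟨fun x z => ?_, (hNS.mul_left ((Commute.one_left S).sub_left hPS)).add_left hPS,
    fun x hx => by rw [hg, hP.of_fix x hx, sub_self, map_zero, zero_add], fun k => ?_⟩
  · have c1 : B (N (x - P x)) (P z) = 0 := by rw [hP.right, h0, map_zero, LinearMap.zero_apply]
    have c2 : B (P x) (N (z - P z)) = 0 := by rw [hP.left, h0, map_zero]
    have c3 : B (x - P x) (P z) = 0 := by rw [hP.right, map_sub, hPP, sub_self, map_zero, LinearMap.zero_apply]
    have c4 : B (P x) (z - P z) = 0 := by rw [hP.left, map_sub, hPP, sub_self, map_zero]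
    conv_rhs => rw [← sub_add_cancel x (P x), ← sub_add_cancel z (P z)]
    rw [hg, hg]
    simp only [map_add, LinearMap.add_apply, c1, c2, c3, c4, hN (x - P x) (z - P z)]
  · induction k with
    | zero => intro x; simp
    | succ k ih =>
      intro x
      rw [pow_succ, Module.End.mul_apply, ih, hg, map_add P, h0, zero_add, hPP, add_sub_cancel_right, pow_succ,
        Module.End.mul_apply]

omit [Finite F] in
/-- The fixed space of an isometry of an alternating form of order prime to the characteristic has even rank. -/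
theorem even_fix (hB : B.IsAlt) (hB0 : B.Nondegenerate) (hS : Pres B S) {m : ℕ} (hmF : (m : F) ≠ 0)
    (hSm : S ^ m = 1) : ∃ k, finrank F (LinearMap.ker (S - 1)) = 2 * k := by
  obtain ⟨P, hP⟩ := exists_isAvg B hS hmF hSm
  obtain ⟨k, _, _, -, hk⟩ := Alt.exists_sympBasis hB (LinearMap.ker (S - 1)) fun w hw hw0 => by
    by_contra h
    push Not at h
    rw [LinearMap.mem_ker, LinearMap.sub_apply, Module.End.one_apply, sub_eq_zero] at hw
    refine hw0 (hB0.1 w fun z => ?_)
    rw [← hP.of_fix w hw, hP.left, hP.of_fix w hw]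
    exact h _ (by rw [LinearMap.mem_ker, LinearMap.sub_apply, Module.End.one_apply, hP.fixes, sub_self])
  exact ⟨k, hk⟩

end split

omit [Finite F] in
theorem finrank_fix_prod (S : Module.End F V) :
    finrank F ((LinearMap.ker (S - 1)).prod (⊤ : Submodule F F)) = finrank F (LinearMap.ker (S - 1)) + 1 := by
  let e : ((LinearMap.ker (S - 1)).prod (⊤ : Submodule F F)) ≃ₗ[F] LinearMap.ker (S - 1) × F :=
    { toFun := fun x => (⟨x.1.1, x.2.1⟩, x.1.2)
      map_add' := fun _ _ => rfl
      map_smul' := fun _ _ => rfl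
      invFun := fun x => ⟨(x.1.1, x.2), x.1.2, trivial⟩
      left_inv := fun _ => rfl
      right_inv := fun _ => rfl }
  rw [e.finrank_eq, Module.finrank_prod, finrank_self]

omit [FiniteDimensional F V'] [FiniteDimensional F W'] in
theorem fix_liftP {Q : QuadraticForm F (V × F)} (u : oG Q) {g : Module.End F V} (hu : oHomEnd Q u = liftP V g) :
    finrank F (fixSub u) = finrank F (LinearMap.ker (g - 1)) + 1 := by
  have h : fixSub u = (LinearMap.ker (g - 1)).prod (⊤ : Submodule F F) := by
    ext x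
    rw [mem_fixSub, show u.1 x = (g x.1, x.2) from LinearMap.congr_fun hu x, Submodule.mem_prod, LinearMap.mem_ker,
      LinearMap.sub_apply, Module.End.one_apply, sub_eq_zero, Prod.ext_iff]
    simp
  rw [h, finrank_fix_prod]

/-- Two orthogonal vectors of norm one. -/
theorem exists_pair_one {Q : QuadraticForm F W} (hQ : (polarBilin Q).Nondegenerate) (h2 : (2 : F) ≠ 0)
    (h3 : 3 ≤ finrank F W) : ∃ a b : W, Q a = 1 ∧ Q b = 1 ∧ polar Q a b = 0 := by
  obtain ⟨a, ha⟩ := exists_value hQ h2 (by omega) (c := 1) one_ne_zero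
  set K := LinearMap.ker (polarBilin Q a)
  have haa : polar Q a a = 2 := by rw [polar_self', ha, mul_one]
  have hK : (polarBilin (Q.comp K.subtype)).Nondegenerate := nondeg_of fun x hx => Subtype.ext
    (eq_zero_of_polar hQ fun z => by
      have hxa : polar Q a x.1 = 0 := x.2
      have h1 := hx ⟨z - (polar Q a z / 2) • a, by
        show polar Q a (z - (polar Q a z / 2) • a) = 0
        rw [polar_sub_right, polar_smul_right, smul_eq_mul, haa, div_mul_cancel₀ _ h2, sub_self]⟩
      change polar Q x.1 (z - (polar Q a z / 2) • a) = 0 at h1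
      rwa [polar_sub_right, polar_smul_right, polar_comm Q x.1 a, hxa, smul_zero, sub_zero] at h1)
  have hr : finrank F (LinearMap.range (polarBilin Q a)) + finrank F K = finrank F W :=
    LinearMap.finrank_range_add_finrank_ker _
  have hr1 := (LinearMap.range (polarBilin Q a)).finrank_le
  rw [finrank_self] at hr1
  obtain ⟨b, hb⟩ := exists_value hK h2 (by omega) (c := 1) one_ne_zero
  exact ⟨a, b.1, ha, hb, b.2⟩

/-- An involution of the commutator subgroup negating a plane in the fixed space. -/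
theorem exists_pair_invol {Q : QuadraticForm F W} (hQ : (polarBilin Q).Nondegenerate) (h2 : (2 : F) ≠ 0)
    (B : Submodule F W) (hB : (polarBilin (Q.comp B.subtype)).Nondegenerate) (h3 : 3 ≤ finrank F B) :
    ∃ a b : W, a ∈ B ∧ b ∈ B ∧ ∃ t : oG Q, orderOf t = 2 ∧ t ∈ commutator (oG Q) ∧
      (∀ x, polar Q x a = 0 → polar Q x b = 0 → t.1 x = x) ∧ t.1 a = -a ∧ t.1 b = -b ∧
      ∀ S : Module.End F W, (∀ x, Q (S x) = Q x) → S a = a → S b = b → Commute (oHomEnd Q t) S := by
  haveI : Finite W := Module.finite_of_finite F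
  obtain ⟨a, b, ha, hb, hab⟩ := exists_pair_one hB h2 h3
  change Q a.1 = 1 at ha
  change Q b.1 = 1 at hb
  change polar Q a.1 b.1 = 0 at hab
  have ha' : Q a.1 ≠ 0 := by rw [ha]; exact one_ne_zero
  have hb' : Q b.1 ≠ 0 := by rw [hb]; exact one_ne_zero
  set t := rO ha' * rO hb' with ht
  have e1 : (rO hb').1 a.1 = a.1 := refl_fix hb' hab
  have e2 : (rO ha').1 b.1 = b.1 := refl_fix ha' (by rw [polar_comm, hab])
  have hta : t.1 a.1 = -a.1 := by rw [ht, oG_mul_apply, e1]; exact refl_neg ha'
  have htb : t.1 b.1 = -b.1 := by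
    rw [ht, oG_mul_apply, show (rO hb').1 b.1 = -b.1 from refl_neg hb', map_neg, e2]
  have htt : t * t = 1 := by
    have hc : Commute (rO ha') (rO hb') := by
      show rO ha' * rO hb' = rO hb' * rO ha'
      have := conj_rO (rO ha') hb'
      rw [rO_congr _ hb' e2, mul_inv_eq_iff_eq_mul] at this
      exact this
    rw [ht, hc.symm.mul_mul_mul_comm, rO_mul_self, rO_mul_self, one_mul]
  haveI : Fact (Nat.Prime 2) := ⟨Nat.prime_two⟩
  refine ⟨a.1, b.1, a.2, b.2, t, orderOf_eq_prime (by rw [pow_two, htt]) fun h => ?_, ?_, fun x hxa hxb => ?_, hta, htb,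
    fun S hS hSa hSb => LinearMap.ext fun x => ?_⟩
  · rw [h, oG_one_apply] at hta
    have : (2 : F) * (polar Q a.1 a.1) = 0 := by
      have h5 := congrArg (fun z => polar Q z a.1) hta
      simp only [polar_neg_left] at h5
      linear_combination h5
    rw [polar_self', ha] at this
    exact h2 (by simpa [h2] using this)
  · rw [mem_commutator_iff hQ h2 (by have := Submodule.finrank_le B; omega), ht, map_mul, map_mul, dickson_rO,
      dickson_rO, spin_rO h2 ha', spin_rO h2 hb', ha, hb]
    exact ⟨rfl, Int.units_mul_self _⟩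
  · rw [ht, oG_mul_apply, show (rO hb').1 x = x from refl_fix hb' hxb]
    exact refl_fix ha' hxa
  · show t.1 (S x) = S (t.1 x)
    have hp : ∀ (c : W), S c = c → polar Q (S x) c = polar Q x c := fun c hc => by
      conv_lhs => rw [← hc]
      simp only [polar, ← map_add, hS]
    simp only [ht, oG_mul_apply, rO_apply, map_sub, map_smul, hSa, hSb, polar_sub_left, polar_smul_left, hp _ hSa,
      hp _ hSb]

section sp_to_orth

variable {A : LinearMap.BilinForm F V} {n : ℕ} (hA : A.IsAlt) (hA0 : A.Nondegenerate) (hV : finrank F V = 2 * n)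
  {Q' : QuadraticForm F W} (hQ' : (polarBilin Q').Nondegenerate) (hW : finrank F W = 2 * n + 1)
  (h2 : (2 : F) ≠ 0) (hn : 1 ≤ n)

include hV hQ' hW in
theorem to_target {Q : QuadraticForm F (V × F)} (hQ : (polarBilin Q).Nondegenerate) {m : ℕ}
    (h : ∃ u ∈ commutator (oG Q), orderOf u = m) : ∃ u ∈ commutator (oG Q'), orderOf u = m := by
  obtain ⟨e⟩ := oG_iso hQ hQ' (n := n) (by rw [Module.finrank_prod, hV, finrank_self]) hW
  exact commutator_of_equiv e h

include hA hA0 hV hQ' hW h2 hn in
theorem orth_of_sp_odd {m : ℕ} (hm : Odd m) (hmF : (m : F) ≠ 0) (s : Alt.isoGroup A) (hs : orderOf s = m) :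
    ∃ u ∈ commutator (oG Q'), orderOf u = m := by
  haveI : Finite V := Module.finite_of_finite F
  have hSm : spHomEnd A s ^ m = 1 := by rw [← map_pow, ← hs, pow_orderOf_eq_one, map_one]
  obtain ⟨Q, hQ, hlift, -⟩ := sp_to_orth h2 hA hA0 (S := spHomEnd A s) s.2 hm hmF hSm
  refine to_target hV hQ' hW hQ ?_
  obtain ⟨u, hu⟩ := exists_oG hQ (hlift _ (Commute.refl _) s.2 fun x hx => hx)
  have hord : orderOf u = m := by
    rw [← orderOf_injective _ (oHomEnd_injective Q) u, hu, ← hs, ← orderOf_injective _ (spHomEnd_injective A) s]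
    exact orderOf_injective _ liftP_injective _
  exact ⟨u, odd_mem_commutator hQ h2 (by rw [Module.finrank_prod, hV, finrank_self]; omega) u hm
    (hord ▸ pow_orderOf_eq_one u), hord⟩

include hA hA0 hV hQ' hW h2 hn in
theorem orth_of_sp_char {r p : ℕ} (hr : r.Prime) [Fact p.Prime] [CharP F p] (hr2 : r ≠ 2) (hp2 : p ≠ 2)
    (hrp : r ≠ p) (s : Alt.isoGroup A) (hs : orderOf s = r * p) :
    ∃ u ∈ commutator (oG Q'), orderOf u = r * p := by
  haveI : Finite V := Module.finite_of_finite F
  have hp := (Fact.out : p.Prime)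
  obtain ⟨hS0, hN0⟩ := orderOf_S_N hs hr.ne_zero hp.ne_zero
  have hrF : (r : F) ≠ 0 := by
    rw [Ne, CharP.cast_eq_zero_iff F p]
    exact fun h => hrp ((Nat.prime_dvd_prime_iff_eq hp hr).1 h).symm
  set S := spHomEnd A (s ^ p)
  set N := spHomEnd A (s ^ r)
  have hSm : S ^ r = 1 := by rw [← map_pow, orderOf_dvd_iff_pow_eq_one.1 hS0.dvd, map_one]
  have hNp : N ^ p = 1 := by rw [← map_pow, orderOf_dvd_iff_pow_eq_one.1 hN0.dvd, map_one]
  have hNS : Commute N S := ((Commute.refl s).pow_pow r p).map (spHomEnd A)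
  obtain ⟨Q, hQ, hlift, hfixnd⟩ := sp_to_orth h2 hA hA0 (S := S) (s ^ p).2 (hr.odd_of_ne_two hr2) hrF hSm
  refine to_target hV hQ' hW hQ ?_
  obtain ⟨uS, huS⟩ := exists_oG hQ (hlift S (Commute.refl _) (s ^ p).2 fun x hx => hx)
  have huSo : orderOf uS = r := by
    rw [← orderOf_injective _ (oHomEnd_injective Q) uS, huS, ← hS0,
      ← orderOf_injective _ (spHomEnd_injective A) (s ^ p)]
    exact orderOf_injective _ liftP_injective _
  suffices ∃ uN : oG Q, orderOf uN = p ∧ Commute uN uS by
    obtain ⟨uN, huN, hc⟩ := this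
    have hord : orderOf (uS * uN) = r * p := by
      rw [hc.symm.orderOf_mul_eq_mul_orderOf_of_coprime, huSo, huN]
      rw [huSo, huN]
      exact (Nat.coprime_primes hr hp).2 hrp
    exact ⟨uS * uN, odd_mem_commutator hQ h2 (by rw [Module.finrank_prod, hV, finrank_self]; omega) _
      ((hr.odd_of_ne_two hr2).mul (hp.odd_of_ne_two hp2)) (hord ▸ pow_orderOf_eq_one _), hord⟩
  obtain ⟨P, hP⟩ := exists_isAvg A (S := S) (s ^ p).2 hrF hSm
  obtain ⟨hgA, hgS, hgfix, hgpow⟩ := split_props hP (N := N) (s ^ r).2 hNS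
  set g := N * (1 - P) + P
  by_cases hg1 : g = 1
  · have h3 : 3 ≤ finrank F ((LinearMap.ker (S - 1)).prod (⊤ : Submodule F F)) := by
      rw [finrank_fix_prod]
      obtain ⟨k, hk⟩ := even_fix hA hA0 (S := S) (s ^ p).2 hrF hSm
      rcases Nat.eq_zero_or_pos k with rfl | hk0
      · exfalso
        rw [mul_zero, Submodule.finrank_eq_zero] at hk
        have hP0 : P = 0 := LinearMap.ext fun x => by
          have : P x ∈ LinearMap.ker (S - 1) := by
            rw [LinearMap.mem_ker, LinearMap.sub_apply, Module.End.one_apply, hP.fixes, sub_self]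
          rwa [hk, Submodule.mem_bot] at this
        have : N = 1 := by rw [← hg1]; simp [g, hP0]
        have h5 : orderOf (s ^ r) = 1 := by
          rw [← orderOf_injective _ (spHomEnd_injective A) (s ^ r)]
          exact orderOf_eq_one_iff.2 this
        exact hp.ne_one (hN0.symm.trans h5)
      · omega
    haveI : Finite (V × F) := Module.finite_of_finite F
    obtain ⟨u, hu, huc⟩ := exists_p_on hQ h2 p _ hfixnd h3
    refine ⟨u, hu, oHomEnd_injective Q ?_⟩
    rw [map_mul, map_mul, huS]
    refine (huc _ (hlift S (Commute.refl _) (s ^ p).2 fun x hx => hx) fun b hb => ?_).eq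
    have := hb.1
    rw [SetLike.mem_coe, LinearMap.mem_ker, LinearMap.sub_apply, Module.End.one_apply, sub_eq_zero] at this
    exact Prod.ext this rfl
  · obtain ⟨u, hu : oHomEnd Q u = liftP V g⟩ := exists_oG hQ (hlift g hgS hgA hgfix)
    refine ⟨u, orderOf_eq_prime (oHomEnd_injective Q ?_) fun h => hg1 (liftP_injective ?_), oHomEnd_injective Q ?_⟩
    · rw [map_pow, hu, ← map_pow, map_one, ← map_one (liftP (F := F) V)]
      exact congrArg _ (LinearMap.ext fun x => by rw [hgpow, hNp, Module.End.one_apply, sub_add_cancel]; rfl)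
    · rw [map_one, ← hu, h, map_one]
    · rw [map_mul, map_mul, hu, huS]
      exact ((hgS.map (liftP V))).eq

include hA hA0 hV hQ' hW h2 hn in
theorem orth_of_sp_two {r : ℕ} (hr : r.Prime) (hr2 : r ≠ 2) (hrF : (r : F) ≠ 0) (S y : Alt.isoGroup A)
    (hSy : Commute S y) (hS : orderOf S = r) (hy : y ∉ Subgroup.center (Alt.isoGroup A))
    (hyy : y * y ∈ Subgroup.center (Alt.isoGroup A)) : ∃ u ∈ commutator (oG Q'), orderOf u = r * 2 := by
  haveI : Finite V := Module.finite_of_finite F
  haveI : Finite (V × F) := Module.finite_of_finite F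
  haveI : Fact (Nat.Prime 2) := ⟨Nat.prime_two⟩
  haveI : Nontrivial V := Module.nontrivial_of_finrank_pos (R := F) (by omega)
  set SE := spHomEnd A S
  have hSm : SE ^ r = 1 := by rw [← map_pow, orderOf_dvd_iff_pow_eq_one.1 hS.dvd, map_one]
  obtain ⟨Q, hQ, hlift, hfixnd⟩ := sp_to_orth h2 hA hA0 (S := SE) S.2 (hr.odd_of_ne_two hr2) hrF hSm
  have hdim : finrank F (V × F) = 2 * n + 1 := by rw [Module.finrank_prod, hV, finrank_self]
  refine to_target hV hQ' hW hQ ?_
  obtain ⟨uS, huS⟩ := exists_oG hQ (hlift SE (Commute.refl _) S.2 fun x hx => hx)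
  have huSo : orderOf uS = r := by
    rw [← orderOf_injective _ (oHomEnd_injective Q) uS, huS, ← hS, ← orderOf_injective _ (spHomEnd_injective A) S]
    exact orderOf_injective _ liftP_injective _
  have hSc : uS ∈ commutator (oG Q) :=
    odd_mem_commutator hQ h2 (by omega) uS (hr.odd_of_ne_two hr2) (huSo ▸ pow_orderOf_eq_one uS)
  suffices ∃ t : oG Q, orderOf t = 2 ∧ t ∈ commutator (oG Q) ∧ Commute uS t by
    obtain ⟨t, ht, htc, hc⟩ := this
    refine ⟨uS * t, mul_mem hSc htc, ?_⟩
    rw [hc.orderOf_mul_eq_mul_orderOf_of_coprime, huSo, ht]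
    rw [huSo, ht]
    exact (Nat.coprime_primes hr Nat.prime_two).2 hr2
  obtain ⟨k, hk⟩ := even_fix hA hA0 (S := SE) S.2 hrF hSm
  rcases Nat.eq_zero_or_pos k with rfl | hk0
  · rw [mul_zero, Submodule.finrank_eq_zero] at hk
    have hfix : ∀ (g : Module.End F V) x, SE x = x → g x = x := fun g x hx => by
      have : x ∈ LinearMap.ker (SE - 1) := by
        rw [LinearMap.mem_ker, LinearMap.sub_apply, Module.End.one_apply, hx, sub_self]
      rw [hk, Submodule.mem_bot] at this
      rw [this, map_zero]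
    have hyS : Commute (spHomEnd A y) SE := (hSy.map (spHomEnd A)).symm
    obtain ⟨u1, hu1 : oHomEnd Q u1 = liftP V (spHomEnd A y)⟩ := exists_oG hQ (hlift _ hyS y.2 (hfix _))
    have hnp : Pres A (-(1 : Module.End F V)) := fun a b => by simp
    obtain ⟨u3, hu3 : oHomEnd Q u3 = liftP V (-1)⟩ := exists_oG hQ (hlift _ ((Commute.one_left SE).neg_left) hnp (hfix _))
    obtain ⟨u2, hu2 : oHomEnd Q u2 = liftP V (-spHomEnd A y)⟩ := exists_oG hQ (hlift _ hyS.neg_left (fun a b => by
      rw [LinearMap.neg_apply, LinearMap.neg_apply, map_neg, map_neg, LinearMap.neg_apply, neg_neg]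
      exact y.2 a b) (hfix _))
    have hc : ∀ {g : Module.End F V} {u : oG Q}, oHomEnd Q u = liftP V g → Commute g SE → Commute uS u :=
      fun {g u} hu hg => oHomEnd_injective Q (by
        rw [map_mul, map_mul, hu, huS]
        exact (hg.symm.map (liftP V)).eq)
    have hord : ∀ {g : Module.End F V} {u : oG Q}, oHomEnd Q u = liftP V g → g * g = 1 → g ≠ 1 → orderOf u = 2 :=
      fun {g u} hu hgg hg1 => orderOf_eq_prime (oHomEnd_injective Q (by
        rw [map_pow, hu, ← map_pow, pow_two, hgg, map_one, map_one])) fun h => hg1 (liftP_injective (by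
        rw [← hu, h, map_one, map_one]))
    have hy1 : spHomEnd A y ≠ 1 ∧ spHomEnd A y ≠ -1 := by
      have := mt (mem_center_iff hA hA0 y).2 hy
      push Not at this
      exact this
    have hneg : -(1 : Module.End F V) ≠ 1 := fun h => by
      obtain ⟨x, hx⟩ := exists_ne (0 : V)
      have h4 : (2 : F) • x = 0 := by
        rw [two_smul]; exact eq_neg_iff_add_eq_zero.1 (LinearMap.congr_fun h x).symm
      exact hx ((smul_eq_zero.1 h4).resolve_left h2)
    rcases (mem_center_iff hA hA0 _).1 hyy with hsq | hsq <;> rw [map_mul] at hsq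
    · -- an involution
      have hd : ∀ {g : Module.End F V} {u : oG Q}, oHomEnd Q u = liftP V g → Pres A g → g * g = 1 →
          dickson hQ (hex_of_two h2 _) u = 1 := fun {g u} hu hg hgg => by
        show dsign u = 1
        obtain ⟨j, hj⟩ := even_fix hA hA0 hg (m := 2) (by exact_mod_cast h2) (by rw [pow_two, hgg])
        rw [dsign, fix_liftP u hu, hj, hdim, show 2 * n + 1 + (2 * j + 1) = 2 * (n + j + 1) by ring, pow_mul]
        simp
      have h12 : u1 * u2 = u3 := oHomEnd_injective Q (by rw [map_mul, hu1, hu2, hu3, ← map_mul, mul_neg, hsq])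
      by_cases s1 : spin Q u1 = 1
      · exact ⟨u1, hord hu1 hsq hy1.1, (mem_commutator_iff hQ h2 (by omega) _).2 ⟨hd hu1 y.2 hsq, s1⟩, hc hu1 hyS⟩
      by_cases s2 : spin Q u2 = 1
      · refine ⟨u2, hord hu2 (by rw [neg_mul_neg, hsq]) fun h => hy1.2 ?_,
          (mem_commutator_iff hQ h2 (by omega) _).2 ⟨hd hu2 (fun a b => ?_) (by rw [neg_mul_neg, hsq]), s2⟩,
          hc hu2 hyS.neg_left⟩
        · rw [← h, neg_neg]
        · rw [LinearMap.neg_apply, LinearMap.neg_apply, map_neg, map_neg, LinearMap.neg_apply, neg_neg]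
          exact y.2 a b
      refine ⟨u3, hord hu3 (by simp) hneg,
        (mem_commutator_iff hQ h2 (by omega) _).2 ⟨hd hu3 hnp (by simp), ?_⟩, hc hu3 (Commute.one_left SE).neg_left⟩
      rw [← h12, map_mul, (Int.units_eq_one_or _).resolve_left s1, (Int.units_eq_one_or _).resolve_left s2]
      rfl
    · have h11 : u1 * u1 = u3 := oHomEnd_injective Q (by rw [map_mul, hu1, hu3, ← map_mul, hsq])
      refine ⟨u3, hord hu3 (by simp) hneg, (mem_commutator_iff hQ h2 (by omega) _).2 ?_,
        hc hu3 (Commute.one_left SE).neg_left⟩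
      rw [← h11, map_mul, map_mul]
      exact ⟨Int.units_mul_self _, Int.units_mul_self _⟩
  · obtain ⟨a, b, ha, hb, t, ht, htc, -, -, -, hcomm⟩ := exists_pair_invol hQ h2 _ hfixnd
      (by rw [finrank_fix_prod, hk]; omega)
    refine ⟨t, ht, htc, oHomEnd_injective Q ?_⟩
    have hfix : ∀ w ∈ (LinearMap.ker (SE - 1)).prod (⊤ : Submodule F F), liftP V SE w = w := fun w hw => by
      have := hw.1
      rw [SetLike.mem_coe, LinearMap.mem_ker, LinearMap.sub_apply, Module.End.one_apply, sub_eq_zero] at this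
      exact Prod.ext this rfl
    rw [map_mul, map_mul, huS]
    exact (hcomm (liftP V SE) (hlift SE (Commute.refl _) S.2 fun x hx => hx) (hfix a ha) (hfix b hb)).eq.symm

end sp_to_orth

end Cfsg.Agent.PrimeGraph
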