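import Cfsg.Agent.PrimeGraph.Extension

/-!
The prime graph of an extension by an `ℓ`-group, when some primes are already joined to `ℓ`.
-/

namespace Cfsg.Agent.PrimeGraph

/-- If `f : H → S` is onto with kernel an `ℓ`-group, `ℓ` divides `|S|`, and elements of prime
order `r ≠ ℓ` centralize only the identity of the kernel unless `S` has elements of order `r·ℓ`,
then `H` and `S` have the same prime graph. -/
theorem same_graph_of_partial_extension {H S : Type*} [Group H] [Group S] [Finite H] (f : H →* S)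
    (hf : Function.Surjective f) {ℓ : ℕ} (hℓ : ℓ.Prime) (hker : IsPGroup ℓ f.ker)
    (hS : ℓ ∣ Nat.card S)
    (hfix : ∀ h : H, (orderOf h).Prime → orderOf h ≠ ℓ →
      (¬ ∃ x : S, orderOf x = orderOf h * ℓ) → ∀ k ∈ f.ker, Commute h k → k = 1) :
    (∀ r : ℕ, r.Prime → (r ∣ Nat.card S ↔ r ∣ Nat.card H)) ∧
      (∀ r s : ℕ, r.Prime → s.Prime → r ≠ s →
        ((∃ x : S, orderOf x = r * s) ↔ ∃ y : H, orderOf y = r * s)) := by
  have hnk : ∀ z : H, (orderOf z).Prime → orderOf z ≠ ℓ → f z ≠ 1 := by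
    intro z hz hzℓ h1
    obtain ⟨n, hn⟩ := hker ⟨z, h1⟩
    exact hzℓ ((Nat.prime_dvd_prime_iff_eq hz hℓ).mp
      (hz.dvd_of_dvd_pow (orderOf_dvd_of_pow_eq_one (congrArg Subtype.val hn : z ^ ℓ ^ n = 1))))
  constructor
  · intro r hr
    refine ⟨fun h => h.trans (Subgroup.card_dvd_of_surjective f hf), fun h => ?_⟩
    rcases eq_or_ne r ℓ with rfl | hrl
    · exact hS
    · have := Fact.mk hr
      obtain ⟨z, hz⟩ := exists_prime_orderOf_dvd_card' r h
      have hz1 : orderOf (f z) = r := orderOf_eq_prime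
        (by rw [← map_pow, ← hz, pow_orderOf_eq_one, map_one]) (hnk z (hz ▸ hr) (hz ▸ hrl))
      exact hz1 ▸ orderOf_dvd_natCard _
  · intro r s hr hs hrs
    constructor
    · rintro ⟨x, hx⟩
      obtain ⟨g, rfl⟩ := hf x
      exact ⟨g ^ (orderOf g / (r * s)),
        orderOf_pow_orderOf_div (orderOf_pos g).ne' (hx ▸ orderOf_map_dvd f g)⟩
    · rintro ⟨y, hy⟩
      have hyr : orderOf (y ^ r) = s := by
        rw [orderOf_pow_of_dvd hr.ne_zero (hy ▸ dvd_mul_right r s), hy,
          Nat.mul_div_cancel_left _ hr.pos]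
      have hys : orderOf (y ^ s) = r := by
        rw [orderOf_pow_of_dvd hs.ne_zero (hy ▸ dvd_mul_left s r), hy,
          Nat.mul_div_cancel _ hs.pos]
      by_contra he
      refine he ⟨f y, orderOf_eq_mul_prime hr hs hrs
        (by rw [← map_pow, ← hy, pow_orderOf_eq_one, map_one]) ?_ ?_⟩
      · rw [← map_pow]
        rcases eq_or_ne s ℓ with hsl | hsl
        · intro h1
          refine hs.one_lt.ne (hyr ▸ (orderOf_eq_one_iff.mpr ?_).symm)
          exact hfix (y ^ s) (hys ▸ hr) (hys ▸ fun h => hrs (h.trans hsl.symm))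
            (by rw [hys, ← hsl]; exact he) _ h1
            ((Commute.refl y).pow_pow s r)
        · exact hnk _ (hyr ▸ hs) (hyr ▸ hsl)
      · rw [← map_pow]
        rcases eq_or_ne r ℓ with hrl | hrl
        · intro h1
          refine hr.one_lt.ne (hys ▸ (orderOf_eq_one_iff.mpr ?_).symm)
          exact hfix (y ^ r) (hyr ▸ hs) (hyr ▸ fun h => hrs (hrl.trans h.symm))
            (by rw [hyr, mul_comm, ← hrl]; exact he) _ h1
            ((Commute.refl y).pow_pow r s)
        · exact hnk _ (hys ▸ hr) (hys ▸ hrl)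

/-- Arbitrarily large groups with the prime graph of `S`: semidirect products of powers of an
`ℓ`-group `V` on which elements of prime order `r ≠ ℓ` act fixed-point-freely whenever `S` has no
elements of order `r·ℓ`. -/
theorem exists_large_of_partial {S : Type*} [Group S] [Finite S] {ℓ : ℕ} (hℓ : ℓ.Prime)
    (hS : ℓ ∣ Nat.card S) {V : Type*} [CommGroup V] [Finite V] [Nontrivial V] (hV : IsPGroup ℓ V)
    (φ : S →* MulAut V)
    (hfix : ∀ g : S, (orderOf g).Prime → orderOf g ≠ ℓ →
      (¬ ∃ x : S, orderOf x = orderOf g * ℓ) → ∀ v, φ g v = v → v = 1) (N : ℕ) :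
    ∃ (H : Type) (_ : Group H) (_ : Fintype H), N < Fintype.card H ∧
      ((∀ r : ℕ, r.Prime → (r ∣ Nat.card S ↔ r ∣ Nat.card H)) ∧
      (∀ r s : ℕ, r.Prime → s.Prime → r ≠ s →
        ((∃ x : S, orderOf x = r * s) ↔ ∃ y : H, orderOf y = r * s))) := by
  let W := Fin (N + 1) → V
  let ψ : S →* MulAut W :=
    { toFun := fun g => MulEquiv.piCongrRight fun _ => φ g
      map_one' := by ext w i; simp
      map_mul' := fun a b => by ext w i; simp }
  let E := SemidirectProduct W S ψ
  have : Finite E := Finite.of_equiv _ SemidirectProduct.equivProd.symm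
  obtain ⟨n, ⟨e⟩⟩ := Finite.exists_equiv_fin E
  let em : E →* Equiv.Perm (Fin n) := e.permCongrHom.toMonoidHom.comp (MulAction.toPermHom E E)
  have hem : Function.Injective em := e.permCongrHom.injective.comp MulAction.toPerm_injective
  let e' : em.range ≃* E := (MonoidHom.ofInjective hem).symm
  have : Fintype em.range := Fintype.ofFinite _
  refine ⟨em.range, inferInstance, inferInstance, ?_, ?_⟩
  · rw [← Nat.card_eq_fintype_card, Nat.card_congr e'.toEquiv, SemidirectProduct.card,
      Nat.card_fun, Nat.card_fin]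
    have h1 : 2 ≤ Nat.card V := Finite.one_lt_card
    calc N < 2 ^ N := N.lt_two_pow_self
      _ ≤ 2 ^ (N + 1) := Nat.pow_le_pow_right two_pos (Nat.le_succ N)
      _ ≤ Nat.card V ^ (N + 1) := Nat.pow_le_pow_left h1 _
      _ ≤ Nat.card V ^ (N + 1) * Nat.card S := Nat.le_mul_of_pos_right _ Nat.card_pos
  let f : em.range →* S := (SemidirectProduct.rightHom (φ := ψ)).comp e'.toMonoidHom
  have hfs : Function.Surjective f :=
    SemidirectProduct.rightHom_surjective.comp e'.surjective
  have hmem : ∀ k ∈ f.ker, ∃ w : W, e' k = SemidirectProduct.inl w := fun k hk =>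
    ⟨(e' k).left, SemidirectProduct.ext rfl hk⟩
  have hVW : IsPGroup ℓ W := fun w => by
    choose a ha using fun i => hV (w i)
    refine ⟨Finset.univ.sup a, funext fun i => ?_⟩
    obtain ⟨b, hb⟩ := Nat.exists_eq_add_of_le (Finset.le_sup (f := a) (Finset.mem_univ i))
    rw [Pi.pow_apply, hb, pow_add, pow_mul, ha, one_pow, Pi.one_apply]
  refine same_graph_of_partial_extension f hfs hℓ ?_ hS ?_
  · rintro ⟨k, hk⟩
    obtain ⟨w, hw⟩ := hmem k hk
    obtain ⟨a, ha⟩ := hVW w
    exact ⟨a, Subtype.ext (e'.injective (by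
      simp only [SubgroupClass.coe_pow, OneMemClass.coe_one, map_pow, map_one, hw]
      rw [← map_pow, ha, map_one]))⟩
  · intro h hh hhl hno k hk hcomm
    obtain ⟨w, hw⟩ := hmem k hk
    have hg1 : f h ≠ 1 := by
      intro h1
      obtain ⟨u, hu⟩ := hmem h h1
      obtain ⟨a, ha⟩ := hVW u
      have : orderOf h ∣ ℓ ^ a := orderOf_dvd_of_pow_eq_one (e'.injective (by
        rw [map_pow, hu, ← map_pow, ha, map_one, map_one]))
      exact hhl ((Nat.prime_dvd_prime_iff_eq hh hℓ).mp (hh.dvd_of_dvd_pow this))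
    have : Fact (orderOf h).Prime := ⟨hh⟩
    have hg : orderOf (f h) = orderOf h :=
      orderOf_eq_prime (by rw [← map_pow, pow_orderOf_eq_one, map_one]) hg1
    obtain ⟨m, hm⟩ : ∃ m : W, e' h = SemidirectProduct.inl m * SemidirectProduct.inr (f h) :=
      ⟨(e' h).left, (SemidirectProduct.inl_left_mul_inr_right (e' h)).symm⟩
    have hc : Commute (e' h) (e' k) := hcomm.map e'
    rw [hw, hm] at hc
    have h4 := congrArg SemidirectProduct.left hc.eq
    change m * (ψ 1) 1 * (ψ (1 * f h)) w = w * (ψ 1) (m * (ψ 1) 1) at h4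
    rw [map_one ψ, MulAut.one_apply, MulAut.one_apply, mul_one, one_mul] at h4
    rw [← map_eq_one_iff e' e'.injective, hw]
    suffices w = 1 by rw [this, map_one]
    by_contra hw1
    obtain ⟨i, hi⟩ := Function.ne_iff.mp hw1
    have hfw : m i * φ (f h) (w i) = w i * m i := congrFun h4 i
    rw [mul_comm (w i)] at hfw
    exact hi (hfix (f h) (hg ▸ hh) (hg ▸ hhl) (hg ▸ hno) (w i) (mul_left_cancel hfw))

end Cfsg.Agent.PrimeGraph
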