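import Mathlib
import Cfsg.Prelude.Def_Sz

/-!
Elements of odd order of the Suzuki groups fix no nonzero vector.
-/

namespace Cfsg.Agent.PrimeGraph

open Cfsg.Lie Matrix

variable {F : Type*} [Field F]

/-- The matrix of `altForm4`. -/
def J4 (F : Type*) [Zero F] [One F] : Matrix (Fin 4) (Fin 4) F :=
  !![0, 0, 0, 1; 0, 0, 1, 0; 0, 1, 0, 0; 1, 0, 0, 0]

/-- The matrix condition for lying in `Sp₄`. -/
def IsSymp (g : Matrix (Fin 4) (Fin 4) F) : Prop := gᵀ * J4 F * g = J4 F

theorem J4_mul_self : J4 F * J4 F = 1 := by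
  ext i j
  fin_cases i <;> fin_cases j <;> simp [J4, Matrix.mul_apply, Fin.sum_univ_four]

theorem gram_apply (g h : Matrix (Fin 4) (Fin 4) F) (i j : Fin 4) :
    (gᵀ * J4 F * h) i j = altForm4 (fun k => g k i) (fun k => h k j) := by
  simp [J4, Matrix.mul_apply, Fin.sum_univ_four, altForm4]
  ring

theorem IsSymp.cols {g : Matrix (Fin 4) (Fin 4) F} (hg : IsSymp g) (i j : Fin 4) :
    altForm4 (fun k => g k i) (fun k => g k j) = J4 F i j := by
  rw [← gram_apply, hg]

theorem IsSymp.rows {g : Matrix (Fin 4) (Fin 4) F} (hg : IsSymp g) (i j : Fin 4) :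
    altForm4 (g i) (g j) = J4 F i j := by
  have h1 : J4 F * gᵀ * J4 F * g = 1 := by
    rw [mul_assoc, mul_assoc, ← mul_assoc gᵀ, hg, J4_mul_self]
  have h2 : g * (J4 F * gᵀ * J4 F) = 1 := mul_eq_one_comm.mp h1
  have h3 : g * J4 F * gᵀ = J4 F := by
    have := congrArg (· * J4 F) h2
    simp only [mul_assoc, J4_mul_self, mul_one, one_mul] at this
    simpa [mul_assoc] using this
  have h4 := gram_apply gᵀ gᵀ i j
  rw [Matrix.transpose_transpose, h3] at h4
  exact h4.symm

theorem IsSymp.mul {g h : Matrix (Fin 4) (Fin 4) F} (hg : IsSymp g) (hh : IsSymp h) :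
    IsSymp (g * h) := by
  unfold IsSymp at *
  rw [Matrix.transpose_mul, show hᵀ * gᵀ * J4 F * (g * h) = hᵀ * (gᵀ * J4 F * g) * h by
    simp only [mul_assoc], hg, hh]

/-- `(a·c)(b·d) - (b·c)(a·d)` summed over the four pairs, given the two symplectic relations. -/
theorem minor_mul [CharP F 2] (a b c d : Fin 4 → F) (hab : altForm4 a b = 0)
    (hcd : altForm4 c d = 0) :
    (a ⬝ᵥ c) * (b ⬝ᵥ d) - (b ⬝ᵥ c) * (a ⬝ᵥ d) =
      (a 0 * b 1 - b 0 * a 1) * (c 0 * d 1 - c 1 * d 0) +
      (a 0 * b 2 - b 0 * a 2) * (c 0 * d 2 - c 2 * d 0) +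
      (a 1 * b 3 - b 1 * a 3) * (c 1 * d 3 - c 3 * d 1) +
      (a 2 * b 3 - b 2 * a 3) * (c 2 * d 3 - c 3 * d 2) := by
  have h2 : (2 : F) = 0 := CharTwo.two_eq_zero
  unfold altForm4 at hab hcd
  have hG : (a 0 * b 3 - b 0 * a 3) + (a 1 * b 2 - b 1 * a 2) = 0 := by
    linear_combination hab - (b 0 * a 3 + b 1 * a 2) * h2
  have hH : (c 0 * d 3 - c 3 * d 0) + (c 1 * d 2 - c 2 * d 1) = 0 := by
    linear_combination hcd - (c 3 * d 0 + c 2 * d 1) * h2
  simp only [dotProduct, Fin.sum_univ_four]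
  linear_combination (c 0 * d 3 - c 3 * d 0) * hG + (a 1 * b 2 - b 1 * a 2) * hH
    - (a 1 * b 2 - b 1 * a 2) * (c 0 * d 3 - c 3 * d 0) * h2

theorem J4_pair (p : Fin 4) : J4 F (pairOf p).1 (pairOf p).2 = 0 := by
  fin_cases p <;> simp [J4, pairOf]

theorem star4_mul [CharP F 2] {g h : Matrix (Fin 4) (Fin 4) F} (hg : IsSymp g) (hh : IsSymp h) :
    star4 (g * h) = star4 g * star4 h := by
  ext p r
  have h1 := minor_mul (g (pairOf p).1) (g (pairOf p).2) (fun k => h k (pairOf r).1)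
    (fun k => h k (pairOf r).2) (by rw [hg.rows, J4_pair]) (by rw [hh.cols, J4_pair])
  rw [Matrix.mul_apply, Fin.sum_univ_four]
  simp only [star4, Matrix.of_apply]
  rw [Matrix.mul_apply, Matrix.mul_apply, Matrix.mul_apply, Matrix.mul_apply]
  simp only [dotProduct] at h1
  rw [h1]
  simp only [pairOf, Matrix.cons_val]

theorem star4_one : star4 (1 : Matrix (Fin 4) (Fin 4) F) = 1 := by
  ext p r
  fin_cases p <;> fin_cases r <;> simp [star4, pairOf, Matrix.one_apply]

theorem mem_Sp4_iff {g : GL (Fin 4) F} :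
    g ∈ Sp4 F ↔ IsSymp (g : Matrix (Fin 4) (Fin 4) F) := by
  change (∀ u v, altForm4 ((g : Matrix (Fin 4) (Fin 4) F) *ᵥ u)
    ((g : Matrix (Fin 4) (Fin 4) F) *ᵥ v) = altForm4 u v) ↔ _
  have hB : ∀ u v : Fin 4 → F, altForm4 u v = u ⬝ᵥ (J4 F *ᵥ v) := fun u v => by
    simp [altForm4, J4, dotProduct, Matrix.mulVec, Fin.sum_univ_four]
  constructor
  · intro h
    ext i j
    have := h (Pi.single i 1) (Pi.single j 1)
    rw [gram_apply]
    simp only [Matrix.mulVec_single_one] at this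
    refine this.trans ?_
    fin_cases i <;> fin_cases j <;> simp [altForm4, J4, Pi.single_apply]
  · intro h u v
    rw [hB, hB, Matrix.mulVec_mulVec, Matrix.dotProduct_mulVec, Matrix.vecMul_mulVec, ← mul_assoc,
      h, ← Matrix.dotProduct_mulVec]

/-- The defining property of the elements of `Sz(F, e)`. -/
def InSz (f : F →+* F) (x : GL (Fin 4) F) : Prop :=
  IsSymp (x : Matrix (Fin 4) (Fin 4) F) ∧
    star4 (x : Matrix (Fin 4) (Fin 4) F) = (x : Matrix (Fin 4) (Fin 4) F).map f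

theorem InSz.one (f : F →+* F) : InSz f (1 : GL (Fin 4) F) := by
  simp [InSz, IsSymp, star4_one]

theorem InSz.mul [CharP F 2] {f : F →+* F} {x y : GL (Fin 4) F} (hx : InSz f x) (hy : InSz f y) :
    InSz f (x * y) := by
  refine ⟨?_, ?_⟩
  · rw [Units.val_mul]; exact hx.1.mul hy.1
  · rw [Units.val_mul, star4_mul hx.1 hy.1, hx.2, hy.2, Matrix.map_mul]

/-- The defining set of `Sz(F, e)` consists of all its elements. -/
theorem mem_Sz [CharP F 2] [Finite F] {k : ℕ} {g : GL (Fin 4) F} (hg : g ∈ Sz F (2 ^ k)) :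
    InSz (iterateFrobenius F 2 k) g := by
  rw [Sz] at hg
  refine Subgroup.closure_induction (p := fun g _ => InSz (iterateFrobenius F 2 k) g) ?_ (InSz.one _)
    (fun x y _ _ hx hy => hx.mul hy) ?_ hg
  · intro x hx
    refine ⟨mem_Sp4_iff.mp hx.1, ?_⟩
    rw [hx.2]
    ext i j
    simp [iterateFrobenius_def]
  · intro x _ hx
    have hfin : IsOfFinOrder x := isOfFinOrder_of_finite x
    rw [show x⁻¹ = x ^ (orderOf x - 1) from inv_eq_of_mul_eq_one_right
      (by rw [← pow_succ', Nat.sub_add_cancel hfin.orderOf_pos, pow_orderOf_eq_one])]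
    generalize orderOf x - 1 = n
    induction n with
    | zero => rw [pow_zero]; exact InSz.one _
    | succ n ih => rw [pow_succ]; exact ih.mul hx

theorem exists_symp_basis [CharP F 2] (v : Fin 4 → F) (hv : v ≠ 0) :
    ∃ P : Matrix (Fin 4) (Fin 4) F, IsSymp P ∧ P *ᵥ Pi.single 0 1 = v := by
  have h2 : (2 : F) = 0 := CharTwo.two_eq_zero
  obtain ⟨i, hi⟩ := Function.ne_iff.mp hv
  let rev : Fin 4 → Fin 4 := ![3, 2, 1, 0]
  let B : (Fin 4 → F) → (Fin 4 → F) → F := altForm4
  have hBsymm : ∀ x y, B x y = B y x := fun x y => by simp [B, altForm4]; ring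
  have hBalt : ∀ x, B x x = 0 := fun x => by
    simp only [B, altForm4]; linear_combination (x 0 * x 3 + x 1 * x 2) * h2
  have hBadd : ∀ x y z, B (x + y) z = B x z + B y z := fun x y z => by simp [B, altForm4]; ring
  have hBsmul : ∀ (c : F) x z, B (c • x) z = c * B x z := fun c x z => by simp [B, altForm4]; ring
  have hsingle : ∀ j x, B (Pi.single j 1) x = x (rev j) := fun j x => by
    fin_cases j <;> simp [B, altForm4, rev, Pi.single_apply]
  set u := (v i)⁻¹ • Pi.single (rev i) (1 : F) with hu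
  have hvu : B v u = 1 := by
    rw [hBsymm, hu, hBsmul, hsingle, show rev (rev i) = i by fin_cases i <;> rfl,
      inv_mul_cancel₀ hi]
  let π : (Fin 4 → F) → (Fin 4 → F) := fun z => z + B z u • v + B z v • u
  have hπv : ∀ z, B (π z) v = 0 := fun z => by
    simp only [π, hBadd, hBsmul, hBalt, hBsymm u v, hvu]; linear_combination B z v * h2
  have hπu : ∀ z, B (π z) u = 0 := fun z => by
    simp only [π, hBadd, hBsmul, hBalt, hvu]; linear_combination B z u * h2
  obtain ⟨j, hj⟩ : ∃ j, π (Pi.single j 1) ≠ 0 := by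
    by_contra! h
    let L : (Fin 2 → F) →ₗ[F] (Fin 4 → F) := Fintype.linearCombination F ![v, u]
    have hL : Function.Surjective L := by
      rw [← LinearMap.range_eq_top, eq_top_iff, ← (Pi.basisFun F (Fin 4)).span_eq,
        Submodule.span_le]
      rintro _ ⟨j, rfl⟩
      refine ⟨![-B (Pi.single j 1) u, -B (Pi.single j 1) v], ?_⟩
      have := h j
      simp only [π] at this
      simp only [L, Fintype.linearCombination_apply, Fin.sum_univ_two, Pi.basisFun_apply]
      simp only [Matrix.cons_val_zero, Matrix.cons_val_one]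
      linear_combination (norm := module) -this
    have := LinearMap.finrank_le_finrank_of_surjective (f := L) hL
    simp at this
  set a := π (Pi.single j 1) with ha
  obtain ⟨l, hl⟩ := Function.ne_iff.mp hj
  set b0 := (a l)⁻¹ • Pi.single (rev l) (1 : F) with hb0
  have hab0 : B a b0 = 1 := by
    rw [hBsymm, hb0, hBsmul, hsingle, show rev (rev l) = l by fin_cases l <;> rfl,
      inv_mul_cancel₀ hl]
  set b := π b0 with hb
  have hav : B a v = 0 := hπv _
  have hau : B a u = 0 := hπu _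
  have hab : B a b = 1 := by
    rw [hBsymm, hb]
    simp only [π, hBadd, hBsmul, hBsymm v a, hBsymm u a, hav, hau, hBsymm b0 a, hab0]; ring
  have hbv : B b v = 0 := hπv _
  have hbu : B b u = 0 := hπu _
  refine ⟨Matrix.of fun k c => ![v k, a k, b k, u k] c, ?_, ?_⟩
  · ext p q
    rw [gram_apply]
    change B _ _ = _
    fin_cases p <;> fin_cases q <;>
      simp [J4, hBalt, hvu, hBsymm u v, hav, hau, hab, hbv, hbu, hBsymm v a, hBsymm u a,
        hBsymm b a, hBsymm v b, hBsymm u b]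
  · funext k
    rw [Matrix.mulVec_single_one]
    rfl

/-- An element of odd order of a Suzuki group fixing a nonzero vector is the identity. -/
theorem eq_one_of_fixed [CharP F 2] [Finite F] {k : ℕ} {g : GL (Fin 4) F}
    (hg : g ∈ Sz F (2 ^ k)) (hodd : Odd (orderOf g)) {v : Fin 4 → F} (hv : v ≠ 0)
    (hfix : (g : Matrix (Fin 4) (Fin 4) F) *ᵥ v = v) : g = 1 := by
  have h2 : (2 : F) = 0 := CharTwo.two_eq_zero
  obtain ⟨hgs, hgθ⟩ := mem_Sz hg
  obtain ⟨P, hP, hPv⟩ := exists_symp_basis v hv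
  set M : Matrix (Fin 4) (Fin 4) F := (g : Matrix (Fin 4) (Fin 4) F)
  set Q := J4 F * Pᵀ * J4 F with hQdef
  have hQP : Q * P = 1 := by
    rw [hQdef, mul_assoc, mul_assoc, ← mul_assoc Pᵀ, hP, J4_mul_self]
  have hPQ : P * Q = 1 := mul_eq_one_comm.mp hQP
  have hQ : IsSymp Q := by
    unfold IsSymp
    calc Qᵀ * J4 F * Q = Qᵀ * (Pᵀ * J4 F * P) * Q := by rw [hP]
      _ = (P * Q)ᵀ * J4 F * (P * Q) := by simp only [Matrix.transpose_mul, mul_assoc]
      _ = J4 F := by simp [hPQ]
  set N := Q * M * P with hN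
  have hNs : IsSymp N := (hQ.mul hgs).mul hP
  have htr : (star4 N).trace = iterateFrobenius F 2 k N.trace := by
    rw [hN, star4_mul (hQ.mul hgs) hP, star4_mul hQ hgs, hgθ, Matrix.trace_mul_cycle,
      ← star4_mul hP hQ, hPQ, star4_one, one_mul, Matrix.trace_mul_cycle Q, hPQ, one_mul,
      Matrix.trace, Matrix.trace, map_sum]
    rfl
  have hcol : ∀ i, N i 0 = if i = 0 then 1 else 0 := by
    intro i
    have h1 : N *ᵥ Pi.single 0 1 = Pi.single 0 1 := by
      rw [hN, ← Matrix.mulVec_mulVec, hPv, ← Matrix.mulVec_mulVec, hfix, ← hPv,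
        Matrix.mulVec_mulVec, hQP, Matrix.one_mulVec]
    have := congrFun h1 i
    rw [Matrix.mulVec_single_one] at this
    simpa [Pi.single_apply] using this
  have hrow : ∀ j, N 3 j = J4 F 0 j := fun j => by
    have := hNs.cols 0 j
    simpa [altForm4, hcol] using this
  have h10 : N 1 0 = 0 := by rw [hcol]; rfl
  have h20 : N 2 0 = 0 := by rw [hcol]; rfl
  have h30 : N 3 0 = 0 := by rw [hcol]; rfl
  have h00 : N 0 0 = 1 := by rw [hcol]; rfl
  have h31 : N 3 1 = 0 := by rw [hrow]; simp [J4]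
  have h32 : N 3 2 = 0 := by rw [hrow]; simp [J4]
  have h33 : N 3 3 = 1 := by rw [hrow]; simp [J4]
  have hA : N 1 1 + N 2 2 = 0 := by
    simp only [Matrix.trace, Fin.sum_univ_four, Matrix.diag, star4, pairOf, Matrix.of_apply,
      Matrix.cons_val, h00, h33, h10, h20, h31, h32] at htr
    rw [← map_eq_zero_iff (iterateFrobenius F 2 k) (iterateFrobenius F 2 k).injective]
    rw [show N 1 1 + N 2 2 = (1 + N 1 1 + N 2 2 + 1) from by linear_combination (-1) * h2, ← htr]
    linear_combination (N 1 1 + N 2 2) * h2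
  have hdet : N 1 1 * N 2 2 + N 2 1 * N 1 2 = 1 := by
    have := hNs.cols 1 2
    simpa [altForm4, J4, h31, h32] using this
  -- `N²` is unitriangular, so `N ^ 8 = 1`
  have e11 : (N * N) 1 1 = 1 := by
    rw [Matrix.mul_apply, Fin.sum_univ_four, h10, h31]
    linear_combination (N 1 1) * hA + hdet - N 1 1 * N 2 2 * h2
  have e22 : (N * N) 2 2 = 1 := by
    rw [Matrix.mul_apply, Fin.sum_univ_four, h20, h32]
    linear_combination (N 2 2) * hA + hdet - N 1 1 * N 2 2 * h2
  have e12 : (N * N) 1 2 = 0 := by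
    rw [Matrix.mul_apply, Fin.sum_univ_four, h10, h32]
    linear_combination (N 1 2) * hA
  have e21 : (N * N) 2 1 = 0 := by
    rw [Matrix.mul_apply, Fin.sum_univ_four, h20, h31]
    linear_combination (N 2 1) * hA
  have ecol : ∀ i, (N * N) i 0 = if i = 0 then 1 else 0 := by
    intro i; simp [Matrix.mul_apply, hcol]
  have erow : ∀ j, (N * N) 3 j = J4 F 0 j := by
    intro j
    rw [Matrix.mul_apply, Fin.sum_univ_four, h30, h31, h32, h33, hrow]; ring
  have hE : N ^ 8 = 1 := by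
    set E := N * N
    have hform : E = !![1, E 0 1, E 0 2, E 0 3; 0, 1, 0, E 1 3; 0, 0, 1, E 2 3; 0, 0, 0, 1] := by
      ext p q
      fin_cases p <;> fin_cases q <;> simp [ecol, erow, e11, e12, e21, e22, J4]
    have hsq : ∀ a b c d e : F,
        (!![1, a, b, c; 0, 1, 0, d; 0, 0, 1, e; 0, 0, 0, 1] : Matrix (Fin 4) (Fin 4) F) *
          !![1, a, b, c; 0, 1, 0, d; 0, 0, 1, e; 0, 0, 0, 1] =
        !![1, 0, 0, a * d + b * e; 0, 1, 0, 0; 0, 0, 1, 0; 0, 0, 0, 1] := by
      intro a b c d e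
      ext p q
      fin_cases p <;> fin_cases q <;>
        simp [Matrix.mul_apply, Fin.sum_univ_four, CharTwo.add_self_eq_zero]
      linear_combination c * h2
    rw [show (8 : ℕ) = 2 * 2 * 2 from rfl, pow_mul, pow_mul, pow_two N, pow_two, pow_two]
    change E * E * (E * E) = 1
    rw [hform, hsq, hsq]
    ext p q
    fin_cases p <;> fin_cases q <;> simp
  have hM : M ^ 8 = 1 := by
    have h1 : M = P * N * Q := by
      rw [hN, show P * (Q * M * P) * Q = (P * Q) * M * (P * Q) by simp only [mul_assoc], hPQ,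
        one_mul, mul_one]
    have h3 : ∀ n : ℕ, M ^ n = P * N ^ n * Q := by
      intro n
      induction n with
      | zero => simp [hPQ]
      | succ n ih =>
        rw [pow_succ, ih, h1, show P * N ^ n * Q * (P * N * Q) =
          P * (N ^ n * (Q * P) * N) * Q by simp only [mul_assoc], hQP, mul_one, pow_succ]
    rw [h3, hE, mul_one, hPQ]
  have hg8 : g ^ 8 = 1 := Units.ext (by rw [Units.val_pow_eq_pow_val]; exact hM)
  rw [← orderOf_eq_one_iff]
  exact Nat.eq_one_of_dvd_coprimes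
    (show Nat.Coprime (orderOf g) 8 from (Nat.coprime_two_right.mpr hodd).pow_right 3)
    dvd_rfl (orderOf_dvd_of_pow_eq_one hg8)

/-- `antidiag(1, 1, 1, 1)` is an involution in every Suzuki group. -/
theorem even_card_Sz [CharP F 2] [Finite F] (k : ℕ) : 2 ∣ Nat.card ↥(Sz F (2 ^ k)) := by
  let j : GL (Fin 4) F := ⟨J4 F, J4 F, J4_mul_self, J4_mul_self⟩
  have hj : j ∈ Sz F (2 ^ k) := by
    refine Subgroup.subset_closure ⟨mem_Sp4_iff.mpr ?_, ?_⟩
    · change (J4 F)ᵀ * J4 F * J4 F = J4 F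
      rw [mul_assoc, J4_mul_self, mul_one]
      ext p q
      fin_cases p <;> fin_cases q <;> simp [J4]
    · ext p q
      have h0 : (0 : F) ^ 2 ^ k = 0 := zero_pow (by positivity)
      fin_cases p <;> fin_cases q <;> simp [star4, pairOf, J4, j, h0, CharTwo.neg_eq]
  have h1 : orderOf (⟨j, hj⟩ : ↥(Sz F (2 ^ k))) = 2 :=
    orderOf_eq_prime (Subtype.ext (Units.ext (by
      rw [pow_two]
      exact J4_mul_self))) (fun h => by
      have := congrArg (fun x : ↥(Sz F (2 ^ k)) => ((x : GL (Fin 4) F) : Matrix (Fin 4) (Fin 4) F) 0 0) h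
      simp [j, J4] at this)
  have h2 := orderOf_dvd_natCard (⟨j, hj⟩ : ↥(Sz F (2 ^ k)))
  rwa [h1] at h2

end Cfsg.Agent.PrimeGraph
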