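import Cfsg.Agent.PrimeGraph.OrdersBack
import Cfsg.Agent.Classical.OrthPOmega

/-!
# Orders `2p` in the defining characteristic, and the projective groups
-/

set_option autoImplicit false

namespace Cfsg.Agent.PrimeGraph

open Module QuadraticMap
open Cfsg.Agent.Classical Cfsg.Agent.Classical.Quad

universe u

variable {F : Type u} [Field F] [Finite F]

theorem orth_two_char {W : Type u} [AddCommGroup W] [Module F W] [FiniteDimensional F W] {Q : QuadraticForm F W}
    (hQ : (polarBilin Q).Nondegenerate) (h2 : (2 : F) ≠ 0) (p : ℕ) [Fact p.Prime] [CharP F p] (hp2 : p ≠ 2)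
    (hW : 7 ≤ finrank F W) : ∃ u ∈ commutator (oG Q), orderOf u = p * 2 := by
  haveI : Finite W := Module.finite_of_finite F
  have hp := (Fact.out : p.Prime)
  have hT : (polarBilin (Q.comp (⊤ : Submodule F W).subtype)).Nondegenerate :=
    nondeg_of fun x hx => Subtype.ext (eq_zero_of_polar hQ fun z => hx ⟨z, trivial⟩)
  obtain ⟨a, b, -, -, t, ht, htc, htfix, hta, htb, -⟩ := exists_pair_invol hQ h2 ⊤ hT (by rw [finrank_top]; omega)
  let L : W →ₗ[F] F × F := (polarBilin Q a).prod (polarBilin Q b)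
  have hB : (polarBilin (Q.comp (LinearMap.ker L).subtype)).Nondegenerate := nondeg_of fun x hx =>
    Subtype.ext (eq_zero_of_polar hQ fun z => by
      have hxa : polar Q x.1 a = 0 := by rw [polar_comm]; exact congrArg Prod.fst x.2
      have hxb : polar Q x.1 b = 0 := by rw [polar_comm]; exact congrArg Prod.snd x.2
      have hz : z + t.1 z ∈ LinearMap.ker L := by
        have hp : ∀ c, t.1 c = -c → polar Q c (t.1 z) = -polar Q c z := fun c hc => by
          have h := polar_oG t c z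
          rw [hc, polar_neg_left] at h
          linear_combination -h
        refine Prod.ext ?_ ?_ <;> show polar Q _ (z + t.1 z) = 0 <;> rw [polar_add_right]
        · rw [hp a hta, add_neg_cancel]
        · rw [hp b htb, add_neg_cancel]
      have h1 := hx ⟨_, hz⟩
      change polar Q x.1 (z + t.1 z) = 0 at h1
      have h3 : polar Q x.1 (t.1 z) = polar Q x.1 z := by
        conv_rhs => rw [← polar_oG t x.1 z, htfix x.1 hxa hxb]
      rw [polar_add_right, h3] at h1
      exact (mul_eq_zero.1 (by linear_combination h1 : (2 : F) * polar Q x.1 z = 0)).resolve_left h2)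
  have hd : 3 ≤ finrank F (LinearMap.ker L) := by
    have h1 := LinearMap.finrank_range_add_finrank_ker L
    have h3 := (LinearMap.range L).finrank_le
    rw [Module.finrank_prod, finrank_self] at h3
    omega
  obtain ⟨u, hu, huc⟩ := exists_p_on hQ h2 p _ hB hd
  refine ⟨u * t, mul_mem (odd_mem_commutator hQ h2 (by omega) u (hp.odd_of_ne_two hp2) (hu ▸ pow_orderOf_eq_one u))
    htc, ?_⟩
  have hc : Commute u t := oHomEnd_injective Q (by
    rw [map_mul, map_mul]
    exact (huc (oHomEnd Q t) t.2 fun x hx => htfix x (by rw [polar_comm]; exact congrArg Prod.fst hx)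
      (by rw [polar_comm]; exact congrArg Prod.snd hx)).eq)
  rw [hc.orderOf_mul_eq_mul_orderOf_of_coprime, hu, ht]
  rw [hu, ht]
  exact (Nat.coprime_primes hp Nat.prime_two).2 hp2

theorem sp_two_char (h2 : (2 : F) ≠ 0) (p : ℕ) [Fact p.Prime] [CharP F p] {n : ℕ} (hn : 2 ≤ n) :
    ∃ S y : Alt.isoGroup (sympB n F), Commute S y ∧ orderOf S = p ∧ y ∉ Subgroup.center (Alt.isoGroup (sympB n F)) ∧
      y * y ∈ Subgroup.center (Alt.isoGroup (sympB n F)) := by
  classical
  haveI := nontrivial_symp (F := F) (m := n) (by omega)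
  let sgn : Fin n → F := fun i => if i.val = 0 then -1 else 1
  have hs : ∀ i, sgn i * sgn i = 1 := fun i => by simp only [sgn]; split_ifs <;> ring
  let σ : Module.End F (Fin n ⊕ Fin n → F) :=
    LinearMap.pi fun j => (Sum.elim sgn sgn j) • LinearMap.proj j
  have hσ : ∀ x j, σ x j = Sum.elim sgn sgn j * x j := fun x j => rfl
  have hσA : Pres (sympB n F) σ := fun x z => by
    rw [sympB_eq_sum, sympB_eq_sum]
    refine Finset.sum_congr rfl fun i _ => ?_
    simp only [hσ, Sum.elim_inl, Sum.elim_inr]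
    linear_combination (x (Sum.inr i) * z (Sum.inl i) - x (Sum.inl i) * z (Sum.inr i)) * hs i
  have hσσ : σ * σ = 1 := LinearMap.ext fun x => funext fun j => by
    rw [Module.End.mul_apply, hσ, hσ, ← mul_assoc, Module.End.one_apply]
    rcases j with j | j <;> simp [hs]
  obtain ⟨y, hy⟩ := exists_isoGroup sympB_nondeg hσA
  set w : Fin n ⊕ Fin n → F := Pi.single (Sum.inl ⟨1, by omega⟩) 1
  have hw : σ w = w := funext fun j => by
    rw [hσ]
    by_cases hj : j = Sum.inl ⟨1, by omega⟩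
    · subst hj; simp [sgn]
    · simp [w, hj]
  let t : Alt.isoGroup (sympB n F) := ⟨Alt.tv sympB_isAlt w 1, Alt.tv_mem_isoGroup sympB_isAlt w 1⟩
  have htk : ∀ k : ℕ, (t ^ k).1 = Alt.tv sympB_isAlt w (k : F) := fun k => by
    induction k with
    | zero => rw [pow_zero, Nat.cast_zero, Alt.tv_zero]; rfl
    | succ k ih => rw [pow_succ, Subgroup.coe_mul, ih, Nat.cast_succ, ← Alt.tv_add]
  refine ⟨t, y, spHomEnd_injective _ (LinearMap.ext fun x => ?_), orderOf_eq_prime (Subtype.ext ?_) fun h1 => ?_,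
    fun hc => ?_, (mem_center_iff sympB_isAlt sympB_nondeg _).2 (Or.inl (by rw [map_mul, hy, hσσ]))⟩
  · rw [map_mul, map_mul, hy]
    show Alt.tv sympB_isAlt w 1 (σ x) = σ (Alt.tv sympB_isAlt w 1 x)
    rw [Alt.tv_apply, Alt.tv_apply, map_add, map_smul, hw, show sympB n F (σ x) w = sympB n F x w by
      conv_lhs => rw [← hw]
      exact hσA x w]
  · rw [htk, CharP.cast_eq_zero, Alt.tv_zero]; rfl
  · have h3 : Alt.tv sympB_isAlt w 1 (Pi.single (Sum.inr ⟨1, by omega⟩) 1) = Pi.single (Sum.inr ⟨1, by omega⟩) 1 :=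
      congrArg (fun u : Alt.isoGroup (sympB n F) => u.1 (Pi.single (Sum.inr ⟨1, by omega⟩) 1)) h1
    rw [Alt.tv_apply, add_eq_left] at h3
    have := congrFun h3 (Sum.inl ⟨1, by omega⟩)
    simp [sympB_eq_sum, w, Pi.single_apply] at this
  · rcases (mem_center_iff sympB_isAlt sympB_nondeg y).1 hc with e | e <;> rw [hy] at e
    · have := congrFun (LinearMap.congr_fun e (Pi.single (Sum.inl ⟨0, by omega⟩) 1)) (Sum.inl ⟨0, by omega⟩)
      simp [hσ, sgn] at this
      exact h2 (by linear_combination -this)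
    · have := congrFun (LinearMap.congr_fun e w) (Sum.inl ⟨1, by omega⟩)
      rw [hw] at this
      simp [w] at this
      exact h2 (by linear_combination this)

/-! ### Quotients by a centre of exponent two -/

theorem quot_odd {G : Type*} [Group G] [Finite G] (hZ : ∀ z ∈ Subgroup.center G, z * z = 1) {m : ℕ} (hm : Odd m) :
    (∃ g : G ⧸ Subgroup.center G, orderOf g = m) ↔ ∃ g : G, orderOf g = m := by
  constructor
  · rintro ⟨g, hg⟩
    obtain ⟨x, rfl⟩ := QuotientGroup.mk_surjective g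
    have hdvd : m ∣ orderOf x := hg ▸ orderOf_map_dvd (QuotientGroup.mk' (Subgroup.center G)) x
    have hxm : x ^ (2 * m) = 1 := by
      have : x ^ m ∈ Subgroup.center G := by
        rw [← QuotientGroup.eq_one_iff, QuotientGroup.mk_pow, ← hg, pow_orderOf_eq_one]
      rw [mul_comm, pow_mul, pow_two, hZ _ this]
    refine ⟨x ^ (orderOf x / m), ?_⟩
    rw [orderOf_pow_of_dvd (Nat.div_pos (Nat.le_of_dvd (orderOf_pos x) hdvd) hm.pos).ne'
      (Nat.div_dvd_of_dvd hdvd), Nat.div_div_self hdvd (orderOf_pos x).ne']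
  · rintro ⟨x, hx⟩
    refine ⟨QuotientGroup.mk x, Nat.dvd_antisymm (hx ▸ orderOf_map_dvd (QuotientGroup.mk' (Subgroup.center G)) x) ?_⟩
    have : x ^ orderOf (QuotientGroup.mk x : G ⧸ Subgroup.center G) ∈ Subgroup.center G := by
      rw [← QuotientGroup.eq_one_iff, QuotientGroup.mk_pow, pow_orderOf_eq_one]
    have h1 : x ^ (orderOf (QuotientGroup.mk x : G ⧸ Subgroup.center G) * 2) = 1 := by
      rw [pow_mul, pow_two, hZ _ this]
    exact (Nat.Coprime.dvd_of_dvd_mul_right (Nat.coprime_two_right.2 hm) (hx ▸ orderOf_dvd_of_pow_eq_one h1))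

theorem quot_two {G : Type*} [Group G] [Finite G] (hZ : ∀ z ∈ Subgroup.center G, z * z = 1) {r : ℕ} (hr : r.Prime)
    (hr2 : r ≠ 2) : (∃ g : G ⧸ Subgroup.center G, orderOf g = r * 2) ↔
      ∃ S y : G, Commute S y ∧ orderOf S = r ∧ y ∉ Subgroup.center G ∧ y * y ∈ Subgroup.center G := by
  haveI : Fact (Nat.Prime 2) := ⟨Nat.prime_two⟩
  haveI : Fact r.Prime := ⟨hr⟩
  constructor
  · rintro ⟨g, hg⟩
    obtain ⟨x, rfl⟩ := QuotientGroup.mk_surjective g
    have hmem : ∀ k : ℕ, x ^ k ∈ Subgroup.center G ↔ r * 2 ∣ k := fun k => by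
      rw [← QuotientGroup.eq_one_iff, QuotientGroup.mk_pow, ← hg, orderOf_dvd_iff_pow_eq_one]
    refine ⟨x ^ 4, x ^ r, (Commute.refl x).pow_pow 4 r, orderOf_eq_prime ?_ fun h4 => ?_, fun h => ?_, ?_⟩
    · rw [← pow_mul, show 4 * r = r * 2 * 2 by ring, pow_mul, pow_two, hZ _ ((hmem _).2 dvd_rfl)]
    · have h := (hmem 4).1 (h4 ▸ one_mem _)
      have hle := Nat.le_of_dvd (by omega) ((dvd_mul_right r 2).trans h)
      have h2le := hr.two_le
      rcases (show r = 3 ∨ r = 4 by omega) with rfl | rfl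
      · revert h; decide
      · revert hr; decide
    · have h' := (hmem r).1 h
      have := Nat.le_of_dvd hr.pos h'
      have := hr.pos
      omega
    · rw [← pow_add]; exact (hmem _).2 ⟨1, by ring⟩
  · rintro ⟨S, y, hc, hS, hy, hyy⟩
    refine ⟨QuotientGroup.mk' _ S * QuotientGroup.mk' _ y, ?_⟩
    have h1 : orderOf (QuotientGroup.mk' (Subgroup.center G) S) = r := by
      refine orderOf_eq_prime (by rw [← map_pow, ← hS, pow_orderOf_eq_one, map_one]) fun h => ?_
      have h3 := orderOf_dvd_of_pow_eq_one (show S ^ 2 = 1 by rw [pow_two, hZ S ((QuotientGroup.eq_one_iff S).1 h)])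
      rw [hS] at h3
      exact hr2 ((Nat.prime_dvd_prime_iff_eq hr Nat.prime_two).1 h3)
    have h3 : orderOf (QuotientGroup.mk' (Subgroup.center G) y) = 2 :=
      orderOf_eq_prime (by rw [← map_pow, pow_two]; exact (QuotientGroup.eq_one_iff _).2 hyy)
        fun h => hy ((QuotientGroup.eq_one_iff y).1 h)
    rw [(hc.map (QuotientGroup.mk' (Subgroup.center G))).orderOf_mul_eq_mul_orderOf_of_coprime, h1, h3]
    rw [h1, h3]
    exact (Nat.coprime_primes hr Nat.prime_two).2 hr2

/-! ### The projective groups -/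

theorem range_orderOf_psp {n m : ℕ} : (m ∈ Set.range (orderOf : Cfsg.PSp n F → ℕ)) ↔
    ∃ g : Alt.isoGroup (sympB n F) ⧸ Subgroup.center (Alt.isoGroup (sympB n F)), orderOf g = m := by
  have hmap : (Subgroup.center (Matrix.symplecticGroup (Fin n) F)).map (spEquiv n F).toMonoidHom =
      Subgroup.center (Alt.isoGroup (sympB n F)) := by
    ext x
    obtain ⟨x, rfl⟩ := (spEquiv n F).surjective x
    rw [show spEquiv n F x = (spEquiv n F).toMonoidHom x from rfl,
      Subgroup.mem_map_iff_mem (f := (spEquiv n F).toMonoidHom) (spEquiv n F).injective]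
    simp only [Subgroup.mem_center_iff, MulEquiv.coe_toMonoidHom]
    constructor
    · intro h k
      obtain ⟨k, rfl⟩ := (spEquiv n F).surjective k
      rw [← map_mul, ← map_mul, h k]
    · intro h k
      exact (spEquiv n F).injective (by rw [map_mul, map_mul]; exact h _)
  let e : Cfsg.PSp n F ≃* Alt.isoGroup (sympB n F) ⧸ Subgroup.center (Alt.isoGroup (sympB n F)) :=
    QuotientGroup.congr _ _ (spEquiv n F) hmap
  constructor
  · rintro ⟨g, rfl⟩; exact ⟨e g, e.orderOf_eq g⟩
  · rintro ⟨g, rfl⟩; exact ⟨e.symm g, e.symm.orderOf_eq g⟩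

theorem range_orderOf_pomega {ι : Type} [Fintype ι] [DecidableEq ι] (Q : QuadraticForm F (ι → F))
    (hQ : (polarBilin Q).Nondegenerate) (h2 : (2 : F) ≠ 0) (hodd : Odd (Fintype.card ι)) (hn : 5 ≤ Fintype.card ι)
    {m : ℕ} : (m ∈ Set.range (orderOf : Cfsg.POmega F ⇑Q → ℕ)) ↔ ∃ u ∈ commutator (oG Q), orderOf u = m := by
  haveI : Finite (ι → F) := Pi.finite
  have hneg : ¬ ∃ g : Cfsg.isometryGroup F ⇑Q, g ∈ Cfsg.Omega F ⇑Q ∧ ((g : GL ι F) : Matrix ι ι F) = -1 := by
    rintro ⟨g, hg, hg1⟩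
    have hd := ((mem_commutator_iff hQ h2 (by rw [finrank_fintype_fun_eq_card]; omega) _).1 ((mem_omega_iff g).1 hg)).1
    have h := det_eq_dickson hQ (hex_of_two h2 _) g
    rw [hd, hg1, Matrix.det_neg, Matrix.det_one, mul_one, hodd.neg_one_pow] at h
    push_cast at h
    exact h2 (by linear_combination -h)
  have hbot : Subgroup.center (Cfsg.Omega F ⇑Q) = ⊥ :=
    Subgroup.card_eq_one.1 ((card_center_omega hQ (by rw [finrank_fintype_fun_eq_card]; omega)).2 (Or.inl hneg))
  let e : Cfsg.POmega F ⇑Q ≃* Cfsg.Omega F ⇑Q :=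
    (QuotientGroup.quotientMulEquivOfEq hbot).trans QuotientGroup.quotientBot
  constructor
  · rintro ⟨g, rfl⟩
    exact ⟨oEquiv Q (e g).1, (mem_omega_iff _).1 (e g).2, by
      rw [MulEquiv.orderOf_eq, Subgroup.orderOf_coe, MulEquiv.orderOf_eq]⟩
  · rintro ⟨u, hu, rfl⟩
    refine ⟨e.symm ⟨(oEquiv Q).symm u, (mem_omega_iff _).2 (by rwa [MulEquiv.apply_symm_apply])⟩, ?_⟩
    rw [MulEquiv.orderOf_eq, ← Subgroup.orderOf_coe]
    exact MulEquiv.orderOf_eq _ u

end Cfsg.Agent.PrimeGraph
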