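import Cfsg.Agent.PrimeGraph.Orders

/-!
# From odd orthogonal groups back to symplectic groups
-/

set_option autoImplicit false

namespace Cfsg.Agent.PrimeGraph

open Module QuadraticMap
open Cfsg.Agent.Classical Cfsg.Agent.Classical.Quad

universe u

variable {F : Type u} [Field F] [Finite F] {V W : Type u} [AddCommGroup V] [Module F V] [AddCommGroup W] [Module F W]
  [FiniteDimensional F V] [FiniteDimensional F W]
  {A' : LinearMap.BilinForm F V} {n : ℕ} {Q : QuadraticForm F W} {v : W}

omit [Finite F] [FiniteDimensional F W] in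
theorem decompose (h2 : (2 : F) ≠ 0) (hv : Q v ≠ 0) (x : W) :
    ∃ (a : LinearMap.ker (polarBilin Q v)) (c : F), x = a.1 + c • v := by
  have hvv : polar Q v v ≠ 0 := by rw [polar_self']; exact mul_ne_zero h2 hv
  refine ⟨⟨x - (polar Q v x / polar Q v v) • v, ?_⟩, polar Q v x / polar Q v v, (sub_add_cancel _ _).symm⟩
  show polar Q v (x - (polar Q v x / polar Q v v) • v) = 0
  rw [polar_sub_right, polar_smul_right, smul_eq_mul, div_mul_cancel₀ _ hvv, sub_self]

omit [Finite F] [FiniteDimensional F W] in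
theorem restr_pow {g : Module.End F W} {h : Module.End F (LinearMap.ker (polarBilin Q v))}
    (hh : ∀ a, (h a).1 = g a.1) : ∀ (k : ℕ) a, ((h ^ k) a).1 = (g ^ k) a.1
  | 0 => fun _ => rfl
  | k + 1 => fun a => by
    rw [pow_succ, pow_succ, Module.End.mul_apply, Module.End.mul_apply, restr_pow hh k, hh]

omit [Finite F] [FiniteDimensional F W] in
theorem restr_eq_one (h2 : (2 : F) ≠ 0) (hv : Q v ≠ 0) {g : Module.End F W}
    {h : Module.End F (LinearMap.ker (polarBilin Q v))} (hh : ∀ a, (h a).1 = g a.1) (hgv : g v = v) :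
    h = 1 ↔ g = 1 := by
  refine ⟨fun e => LinearMap.ext fun x => ?_, fun e => LinearMap.ext fun a => Subtype.ext (by rw [hh, e]; rfl)⟩
  obtain ⟨a, c, rfl⟩ := decompose h2 hv x
  rw [map_add, map_smul, hgv, ← hh, e]
  rfl

omit [Finite F] [FiniteDimensional F W] in
theorem restr_orderOf (h2 : (2 : F) ≠ 0) (hv : Q v ≠ 0) {g : Module.End F W}
    {h : Module.End F (LinearMap.ker (polarBilin Q v))} (hh : ∀ a, (h a).1 = g a.1) (hgv : g v = v) :
    orderOf h = orderOf g :=
  orderOf_eq_orderOf_iff.2 fun k => restr_eq_one h2 hv (restr_pow hh k) (pow_apply_fix hgv k)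

omit [Finite F] [FiniteDimensional F W] in
theorem restr_commute {g g' : Module.End F W} {h h' : Module.End F (LinearMap.ker (polarBilin Q v))}
    (hh : ∀ a, (h a).1 = g a.1) (hh' : ∀ a, (h' a).1 = g' a.1) (hc : Commute g g') : Commute h h' :=
  LinearMap.ext fun a => Subtype.ext (by
    rw [Module.End.mul_apply, Module.End.mul_apply, hh, hh', hh', hh]
    exact LinearMap.congr_fun hc.eq a.1)

variable (hA' : A'.IsAlt) (hA0' : A'.Nondegenerate) (hV : finrank F V = 2 * n)
  (hQ : (polarBilin Q).Nondegenerate) (hW : finrank F W = 2 * n + 1) (h2 : (2 : F) ≠ 0) (hn : 1 ≤ n)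

include hA' hA0' hV hQ hW h2 in
theorem sp_of_orth_odd {m : ℕ} (hm : Odd m) (hmF : (m : F) ≠ 0) (w : oG Q) (hw : orderOf w = m) :
    ∃ s : Alt.isoGroup A', orderOf s = m := by
  have hwm : oHomEnd Q w ^ m = 1 := by rw [← map_pow, ← hw, pow_orderOf_eq_one, map_one]
  obtain ⟨v, hv, hSv, A, hA, hA0, hdim, -, hT⟩ := orth_to_sp h2 hQ hW (S := oHomEnd Q w) w.2 hm hmF hwm
  obtain ⟨h, hh, hp⟩ := hT _ (Commute.refl _) w.2 (Or.inl hSv) 1 (one_mul 1) fun x _ hx => by rw [hx, one_smul]
  obtain ⟨s, hs⟩ := exists_isoGroup hA0 hp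
  obtain ⟨e⟩ := isoGroup_iso hA hA0 hA' hA0' (hdim.trans hV.symm)
  refine ⟨e s, ?_⟩
  rw [MulEquiv.orderOf_eq, ← orderOf_injective _ (spHomEnd_injective A) s, hs, restr_orderOf h2 hv hh hSv,
    orderOf_injective _ (oHomEnd_injective Q), hw]

include hA' hA0' hV hQ hW h2 in
theorem sp_of_orth_char {r p : ℕ} (hr : r.Prime) [Fact p.Prime] [CharP F p] (hr2 : r ≠ 2) (hrp : r ≠ p)
    (w : oG Q) (hw : orderOf w = r * p) : ∃ s : Alt.isoGroup A', orderOf s = r * p := by
  have hp := (Fact.out : p.Prime)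
  obtain ⟨hS0, hN0⟩ := orderOf_S_N hw hr.ne_zero hp.ne_zero
  have hrF : (r : F) ≠ 0 := by
    rw [Ne, CharP.cast_eq_zero_iff F p]
    exact fun h => hrp ((Nat.prime_dvd_prime_iff_eq hp hr).1 h).symm
  set S := oHomEnd Q (w ^ p)
  set N := oHomEnd Q (w ^ r)
  have hSQ : ∀ x, Q (S x) = Q x := (w ^ p).2
  have hNQ : ∀ x, Q (N x) = Q x := (w ^ r).2
  have hSm : S ^ r = 1 := by rw [← map_pow, orderOf_dvd_iff_pow_eq_one.1 hS0.dvd, map_one]
  have hNp : N ^ p = 1 := by rw [← map_pow, orderOf_dvd_iff_pow_eq_one.1 hN0.dvd, map_one]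
  have hNS : Commute N S := ((Commute.refl w).pow_pow r p).map (oHomEnd Q)
  obtain ⟨v, hv, hSv, A, hA, hA0, hdim, hQ0, hT⟩ := orth_to_sp h2 hQ hW hSQ (hr.odd_of_ne_two hr2) hrF hSm
  obtain ⟨e⟩ := isoGroup_iso hA hA0 hA' hA0' (hdim.trans hV.symm)
  obtain ⟨h, hh, hp0⟩ := hT S (Commute.refl _) hSQ (Or.inl hSv) 1 (one_mul 1) fun x _ hx => by rw [hx, one_smul]
  obtain ⟨sS, hsS⟩ := exists_isoGroup hA0 hp0
  have hsSo : orderOf sS = r := by
    rw [← orderOf_injective _ (spHomEnd_injective A) sS, hsS, restr_orderOf h2 hv hh hSv,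
      orderOf_injective _ (oHomEnd_injective Q), hS0]
  suffices ∃ sN : Alt.isoGroup A, orderOf sN = p ∧ Commute sN sS by
    obtain ⟨sN, hsN, hc⟩ := this
    refine ⟨e (sS * sN), ?_⟩
    rw [MulEquiv.orderOf_eq, hc.symm.orderOf_mul_eq_mul_orderOf_of_coprime, hsSo, hsN]
    rw [hsSo, hsN]
    exact (Nat.coprime_primes hr hp).2 hrp
  have hpres : ∀ {g : Module.End F W}, (∀ x, Q (g x) = Q x) → Pres (polarBilin Q) g := fun {g} hg x z => by
    simp only [polarBilin_apply_apply, polar, ← map_add, hg]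
  obtain ⟨P, hP⟩ := exists_isAvg (polarBilin Q) (hpres hSQ) hrF hSm
  obtain ⟨hgp, hgS, hgfix, hgpow⟩ := split_props hP (hpres hNQ) hNS
  set g := N * (1 - P) + P with hg
  have hgQ : ∀ x, Q (g x) = Q x := fun x => by
    refine mul_left_cancel₀ h2 ?_
    rw [← polar_self', ← polar_self']
    exact hgp x x
  obtain ⟨hN', hhN, hpN⟩ := hT g hgS hgQ (Or.inl (hgfix v hSv)) 1 (one_mul 1) fun x _ hx => by rw [hgfix x hx, one_smul]
  by_cases hg1 : g = 1
  · obtain ⟨a, ha0, hSa⟩ : ∃ a : LinearMap.ker (polarBilin Q v), a ≠ 0 ∧ S a.1 = a.1 := by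
      by_contra hcon
      push Not at hcon
      have hfix : ∀ x, S x = x → ∃ c : F, x = c • v := fun x hx => by
        obtain ⟨a, c, rfl⟩ := decompose h2 hv x
        rw [map_add, map_smul, hSv, add_left_inj] at hx
        exact ⟨c, by rw [of_not_not fun h => hcon a h hx]; simp⟩
      obtain ⟨c, hc⟩ := hfix (N v) (by
        rw [← Module.End.mul_apply, ← hNS.eq, Module.End.mul_apply, hSv])
      have hck : ∀ k : ℕ, (N ^ k) v = c ^ k • v := fun k => by
        induction k with
        | zero => simp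
        | succ k ih => rw [pow_succ, Module.End.mul_apply, hc, map_smul, ih, smul_smul, pow_succ, mul_comm]
      have hv0 : v ≠ 0 := fun h => hv (by rw [h, map_zero])
      have hcp : c ^ p = 1 := smul_left_injective F hv0 (by
        show c ^ p • v = (1 : F) • v
        rw [← hck, hNp, one_smul, Module.End.one_apply])
      have hc1 : c = 1 := by
        have h1 : (c - 1) ^ p = 0 := by rw [sub_pow_char, hcp, one_pow, sub_self]
        exact sub_eq_zero.1 (pow_eq_zero_iff hp.ne_zero |>.1 h1)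
      have hN1 : N = 1 := LinearMap.ext fun x => by
        obtain ⟨d, hd⟩ := hfix (P x) (hP.fixes x)
        have h1 := LinearMap.congr_fun hg1 x
        rw [hg] at h1
        change N (x - P x) + P x = x at h1
        rw [Module.End.one_apply]
        conv_lhs => rw [← sub_add_cancel x (P x), map_add]
        rw [show N (P x) = P x by rw [hd, map_smul, hc, hc1, one_smul], h1]
      have h5 : orderOf (w ^ r) = 1 := by
        rw [← orderOf_injective _ (oHomEnd_injective Q) (w ^ r)]
        exact orderOf_eq_one_iff.2 hN1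
      exact hp.ne_one (hN0.symm.trans h5)
    let t : Alt.isoGroup A := ⟨Alt.tv hA a 1, Alt.tv_mem_isoGroup hA a 1⟩
    have htk : ∀ k : ℕ, (t ^ k).1 = Alt.tv hA a (k : F) := fun k => by
      induction k with
      | zero => rw [pow_zero, Nat.cast_zero, Alt.tv_zero]; rfl
      | succ k ih => rw [pow_succ, Subgroup.coe_mul, ih, Nat.cast_succ, ← Alt.tv_add]
    refine ⟨t, orderOf_eq_prime (Subtype.ext ?_) fun h1 => ?_, spHomEnd_injective A (LinearMap.ext fun x => ?_)⟩
    · rw [htk, CharP.cast_eq_zero, Alt.tv_zero]; rfl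
    · refine ha0 (hA0.2 a fun x => ?_)
      have h3 : Alt.tv hA a 1 x = x := congrArg (fun u : Alt.isoGroup A => u.1 x) h1
      rw [Alt.tv_apply, one_mul, add_eq_left] at h3
      exact (smul_eq_zero.1 h3).resolve_right ha0
    · rw [map_mul, map_mul, hsS, Module.End.mul_apply, Module.End.mul_apply]
      have ha : h a = a := Subtype.ext (by rw [hh, hSa])
      show Alt.tv hA a 1 (h x) = h (Alt.tv hA a 1 x)
      rw [Alt.tv_apply, Alt.tv_apply, map_add, map_smul, ha, show A (h x) a = A x a by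
        conv_lhs => rw [← ha]
        exact hp0 x a]
  · obtain ⟨sN, hsN⟩ := exists_isoGroup hA0 hpN
    refine ⟨sN, orderOf_eq_prime (spHomEnd_injective A ?_) fun h1 => hg1 ?_, spHomEnd_injective A ?_⟩
    · rw [map_pow, hsN, map_one]
      exact (restr_eq_one h2 hv (restr_pow hhN p) (pow_apply_fix (hgfix v hSv) p)).2
        (LinearMap.ext fun x => by rw [hgpow, hNp, Module.End.one_apply, sub_add_cancel]; rfl)
    · exact (restr_eq_one h2 hv hhN (hgfix v hSv)).1 (by rw [← hsN, h1, map_one])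
    · rw [map_mul, map_mul, hsN, hsS]
      exact (restr_commute hhN hh hgS).eq

include hA' hA0' hV hQ hW h2 hn in
theorem sp_of_orth_two {r : ℕ} (hr : r.Prime) (hr2 : r ≠ 2) (hrF : (r : F) ≠ 0) (w : oG Q)
    (hwc : w ∈ commutator (oG Q)) (hw : orderOf w = r * 2) :
    ∃ S y : Alt.isoGroup A', Commute S y ∧ orderOf S = r ∧ y ∉ Subgroup.center (Alt.isoGroup A') ∧
      y * y ∈ Subgroup.center (Alt.isoGroup A') := by
  haveI : Finite W := Module.finite_of_finite F
  obtain ⟨hS0, hT0⟩ := orderOf_S_N hw hr.ne_zero two_ne_zero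
  set S := oHomEnd Q (w ^ 2)
  set t := w ^ r
  have hSQ : ∀ x, Q (S x) = Q x := (w ^ 2).2
  have hSm : S ^ r = 1 := by rw [← map_pow, orderOf_dvd_iff_pow_eq_one.1 hS0.dvd, map_one]
  have htc : t ∈ commutator (oG Q) := pow_mem hwc r
  have htS : Commute (oHomEnd Q t) S := ((Commute.refl w).pow_pow r 2).map (oHomEnd Q)
  have htt : t * t = 1 := by rw [← pow_two, orderOf_dvd_iff_pow_eq_one.1 hT0.dvd]
  have ht1 : t ≠ 1 := fun h => by rw [h, orderOf_one] at hT0; omega
  obtain ⟨hd, hs⟩ := (mem_commutator_iff hQ h2 (by omega) t).1 htc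
  change dsign t = 1 at hd
  obtain ⟨v, hv, hSv, A, hA, hA0, hdim, hQ0, hT⟩ := orth_to_sp h2 hQ hW hSQ (hr.odd_of_ne_two hr2) hrF hSm
  haveI : Nontrivial (LinearMap.ker (polarBilin Q v)) := Module.nontrivial_of_finrank_pos (R := F) (by omega)
  obtain ⟨e⟩ := isoGroup_iso hA hA0 hA' hA0' (hdim.trans hV.symm)
  obtain ⟨h, hh, hp0⟩ := hT S (Commute.refl _) hSQ (Or.inl hSv) 1 (one_mul 1) fun x _ hx => by rw [hx, one_smul]
  obtain ⟨sS, hsS⟩ := exists_isoGroup hA0 hp0
  have hsSo : orderOf sS = r := by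
    rw [← orderOf_injective _ (spHomEnd_injective A) sS, hsS, restr_orderOf h2 hv hh hSv,
      orderOf_injective _ (oHomEnd_injective Q), hS0]
  suffices ∃ y : Module.End F (LinearMap.ker (polarBilin Q v)), Pres A y ∧ Commute h y ∧ y ≠ 1 ∧ y ≠ -1 ∧
      (y * y = 1 ∨ y * y = -1) by
    obtain ⟨y, hyA, hyc, hy1, hy2, hyy⟩ := this
    obtain ⟨sy, hsy⟩ := exists_isoGroup hA0 hyA
    have hc : ∀ g : Alt.isoGroup A, e g ∈ Subgroup.center (Alt.isoGroup A') ↔ g ∈ Subgroup.center (Alt.isoGroup A) := by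
      intro g
      simp only [Subgroup.mem_center_iff]
      constructor
      · exact fun h k => e.injective (by rw [map_mul, map_mul]; exact h (e k))
      · intro h k
        obtain ⟨k, rfl⟩ := e.surjective k
        rw [← map_mul, ← map_mul, h k]
    refine ⟨e sS, e sy, Commute.map ?_ e, by rw [MulEquiv.orderOf_eq, hsSo], ?_, ?_⟩
    · exact spHomEnd_injective A (by rw [map_mul, map_mul, hsS, hsy]; exact hyc.eq)
    · rw [hc, mem_center_iff hA hA0, hsy]
      tauto
    · rw [← map_mul, hc, mem_center_iff hA hA0, map_mul, hsy]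
      exact hyy
  have hpres : ∀ {g : Module.End F W}, (∀ x, Q (g x) = Q x) → Pres (polarBilin Q) g := fun {g} hg x z => by
    simp only [polarBilin_apply_apply, polar, ← map_add, hg]
  obtain ⟨P, hP⟩ := exists_isAvg (polarBilin Q) (hpres hSQ) hrF hSm
  by_cases hfix : ∃ a : LinearMap.ker (polarBilin Q v), a ≠ 0 ∧ S a.1 = a.1
  · obtain ⟨a, ha0, hSa⟩ := hfix
    set g : Module.End F W := 1 - (2 : F) • P with hg
    have hgx : ∀ x, g x = x - (2 : F) • P x := fun x => rfl
    have hgQ : ∀ x, Q (g x) = Q x := fun x => by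
      have h1 : polar Q x (P x) = polar Q (P x) (P x) := hP.right x x
      rw [hgx, sub_eq_add_neg, ← neg_smul, map_add_smul, h1, polar_self']
      ring
    have hgS : Commute g S := (Commute.one_left S).sub_left
      ((show Commute P S from LinearMap.ext fun x => by
        rw [Module.End.mul_apply, Module.End.mul_apply, hP.absorb, hP.fixes]).smul_left (2 : F))
    have hneg : ∀ x, S x = x → g x = -x := fun x hx => by rw [hgx, hP.of_fix x hx, two_smul]; abel
    obtain ⟨y, hy, hyA⟩ := hT g hgS hgQ (Or.inr (hneg v hSv)) (-1) (by ring) fun x _ hx => by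
      rw [hneg x hx, neg_one_smul]
    refine ⟨y, hyA, restr_commute hh hy hgS.symm, fun e1 => ?_, fun e1 => ?_,
      Or.inl (LinearMap.ext fun x => Subtype.ext ?_)⟩
    · have h1 := hy a
      rw [e1, Module.End.one_apply, hneg a.1 hSa] at h1
      have h3 : (2 : F) • a.1 = 0 := by rw [two_smul]; exact eq_neg_iff_add_eq_zero.1 h1
      exact ha0 (Subtype.ext ((smul_eq_zero.1 h3).resolve_left h2))
    · obtain ⟨x, hx⟩ : ∃ x : LinearMap.ker (polarBilin Q v), S x.1 ≠ x.1 := by
        by_contra hcon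
        push Not at hcon
        have : h = 1 := LinearMap.ext fun x => Subtype.ext (by rw [hh, hcon]; rfl)
        rw [restr_eq_one h2 hv hh hSv] at this
        have h5 : orderOf (w ^ 2) = 1 := by
          rw [← orderOf_injective _ (oHomEnd_injective Q) (w ^ 2)]
          exact orderOf_eq_one_iff.2 this
        exact hr.ne_one (hS0.symm.trans h5)
      have h1 := hy x
      rw [e1, LinearMap.neg_apply, Module.End.one_apply, Submodule.coe_neg, hgx] at h1
      have h3 : (2 : F) • x.1 = (2 : F) • P x.1 := by rw [two_smul]; linear_combination (norm := module) -h1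
      exact hx (by rw [(smul_right_injective W h2) h3, hP.fixes])
    · rw [Module.End.mul_apply, hy, hy, Module.End.one_apply, hgx, hgx, map_sub, map_smul,
        hP.of_fix _ (hP.fixes _)]
      module
  · push Not at hfix
    have hfix0 : ∀ x, polar Q v x = 0 → S x = x → x = 0 := fun x hx hSx => by
      by_contra hx0
      exact hfix ⟨x, hx⟩ (fun h => hx0 (congrArg Subtype.val h)) hSx
    obtain ⟨c, hc⟩ : ∃ c : F, t.1 v = c • v := by
      obtain ⟨a, c, hac⟩ := decompose h2 hv (t.1 v)
      have h1 : S (t.1 v) = t.1 v := by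
        show S (oHomEnd Q t v) = oHomEnd Q t v
        rw [← Module.End.mul_apply, ← htS.eq, Module.End.mul_apply, hSv]
      rw [hac, map_add, map_smul, hSv, add_left_inj] at h1
      exact ⟨c, by rw [hac, hfix0 a.1 a.2 h1, zero_add]⟩
    have hv0 : v ≠ 0 := fun h => hv (by rw [h, map_zero])
    have hcc : c * c = 1 := smul_left_injective F hv0 (by
      show (c * c) • v = (1 : F) • v
      rw [one_smul, ← smul_smul, ← hc, ← map_smul, ← hc, ← oG_mul_apply, htt, oG_one_apply])
    have htv : oHomEnd Q t v = v ∨ oHomEnd Q t v = -v := by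
      show t.1 v = v ∨ t.1 v = -v
      rcases mul_self_eq_one_iff.1 hcc with rfl | rfl
      · left; rw [hc, one_smul]
      · right; rw [hc, neg_one_smul]
    obtain ⟨y, hy, hyA⟩ := hT _ htS t.2 htv 1 (one_mul 1) fun x hx hSx => by rw [hfix0 x hx hSx]; simp
    have hyy : y * y = 1 := LinearMap.ext fun a => Subtype.ext (by
      rw [Module.End.mul_apply, hy, hy]
      show t.1 (t.1 a.1) = a.1
      rw [← oG_mul_apply, htt, oG_one_apply])
    by_cases hy1 : y = 1
    · exfalso
      have hta : ∀ a : LinearMap.ker (polarBilin Q v), t.1 a.1 = a.1 := fun a => by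
        have := hy a; rw [hy1] at this; exact this.symm
      rcases mul_self_eq_one_iff.1 hcc with rfl | rfl
      · refine ht1 (ext_oG fun x => ?_)
        obtain ⟨a, d, rfl⟩ := decompose h2 hv x
        rw [map_add, map_smul, hc, one_smul, hta, oG_one_apply]
      · have hfs : fixSub t = LinearMap.ker (polarBilin Q v) := by
          ext x
          rw [mem_fixSub]
          constructor
          · intro hx
            obtain ⟨a, d, rfl⟩ := decompose h2 hv x
            rw [map_add, map_smul, hc, hta, add_right_inj, smul_smul] at hx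
            have hd0 : d = 0 := by
              have h6 : d * -1 = d := smul_left_injective F hv0 hx
              exact (mul_eq_zero.1 (by linear_combination -h6 : (2 : F) * d = 0)).resolve_left h2
            rw [hd0, zero_smul, add_zero]
            exact a.2
          · exact fun hx => hta ⟨x, hx⟩
        rw [dsign, hfs, hdim, hW, show 2 * n + 1 + 2 * n = 2 * (2 * n) + 1 by ring, pow_succ, pow_mul] at hd
        simp at hd
    by_cases hy2 : y = -1
    swap
    · exact ⟨y, hyA, restr_commute hh hy htS.symm, hy1, hy2, Or.inl hyy⟩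
    have hta : ∀ a : LinearMap.ker (polarBilin Q v), t.1 a.1 = -a.1 := fun a => by
      have := hy a; rw [hy2] at this; exact this.symm
    have hc1 : c = 1 := by
      rcases mul_self_eq_one_iff.1 hcc with rfl | rfl
      · rfl
      · exfalso
        have hfs : fixSub t = ⊥ := by
          rw [Submodule.eq_bot_iff]
          intro x hx
          rw [mem_fixSub] at hx
          obtain ⟨a, d, rfl⟩ := decompose h2 hv x
          rw [map_add, map_smul, hc, hta, neg_one_smul, smul_neg, ← neg_add] at hx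
          have h3 : (2 : F) • (a.1 + d • v) = 0 := by rw [two_smul]; exact eq_neg_iff_add_eq_zero.1 hx.symm
          exact (smul_eq_zero.1 h3).resolve_left h2
        rw [dsign, hfs, finrank_bot, add_zero, hW, pow_succ, pow_mul] at hd
        simp at hd
    subst hc1
    rw [one_smul] at hc
    -- the negation on the hyperplane has trivial spinor character
    let Q0 := Q.comp (LinearMap.ker (polarBilin Q v)).subtype
    haveI : Finite (LinearMap.ker (polarBilin Q v)) := Module.finite_of_finite F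
    obtain ⟨π, φ, -, hπu, hφ, hchar⟩ := AutPOmega.exists_extend hQ h2 (LinearMap.ker (polarBilin Q v)) hQ0
    have hπ : ∀ (a : (LinearMap.ker (polarBilin Q v))) (d : F), π (a.1 + d • v) = a := fun a d => hπu _ _ fun b => by
      have hb : polar Q v b.1 = 0 := b.2
      rw [polar_add_left, polar_smul_left, hb, smul_zero, add_zero]
    have hπa : ∀ a : (LinearMap.ker (polarBilin Q v)), π a.1 = a := fun a => hπu _ _ fun b => rfl
    let n0 : oG Q0 := ⟨LinearEquiv.neg F, fun x => by simp [QuadraticMap.map_neg]⟩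
    have hn0 : spin Q0 n0 = 1 := by
      rw [← (hchar n0).2, show φ n0 = t from ext_oG fun x => ?_, hs]
      obtain ⟨a, d, rfl⟩ := decompose h2 hv x
      rw [hφ, hπ, map_add, map_smul, hc, hta]
      show (-a).1 + _ = _
      simp
    haveI : Finite (Module.End F (LinearMap.ker (polarBilin Q v))) := Module.finite_of_finite F
    haveI : Finite (oG Q0) := Finite.of_injective _ (oHomEnd_injective Q0)
    obtain ⟨u, -, hu, huS⟩ := AutPOmega.exists_spin_commute (Q := Q0) hQ0 h2 (S := h)
      (fun a => by show Q (h a).1 = Q a.1; rw [hh, hSQ]) (hr.odd_of_ne_two hr2) hr hrF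
      (LinearMap.ext fun a => Subtype.ext (by rw [restr_pow hh, hSm]; rfl)) hdim hn
    obtain ⟨k, o, ho, hko⟩ := Nat.exists_eq_two_pow_mul_odd (orderOf_pos u).ne'
    have h2k : (u ^ o) ^ (2 ^ k) = 1 ∨ (u ^ o) ^ (2 ^ k) = n0 :=
      Or.inl (by rw [← pow_mul, mul_comm, ← hko, pow_orderOf_eq_one])
    classical
    let j := Nat.find (p := fun j => (u ^ o) ^ (2 ^ j) = 1 ∨ (u ^ o) ^ (2 ^ j) = n0) ⟨k, h2k⟩
    have hj : (u ^ o) ^ (2 ^ j) = 1 ∨ (u ^ o) ^ (2 ^ j) = n0 :=
      Nat.find_spec (p := fun j => (u ^ o) ^ (2 ^ j) = 1 ∨ (u ^ o) ^ (2 ^ j) = n0) ⟨k, h2k⟩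
    have hj0 : j ≠ 0 := fun h0 => by
      rw [h0, pow_zero, pow_one] at hj
      have h1 : spin Q0 (u ^ o) = 1 := by
        rcases hj with e1 | e1 <;> rw [e1]
        · exact map_one _
        · exact hn0
      rw [map_pow, hu, ho.neg_one_pow] at h1
      exact absurd h1 (by decide)
    obtain ⟨i, hi⟩ : ∃ i, j = i + 1 := ⟨j - 1, by omega⟩
    have hmin := Nat.find_min (p := fun j => (u ^ o) ^ (2 ^ j) = 1 ∨ (u ^ o) ^ (2 ^ j) = n0) ⟨k, h2k⟩
      (show i < j by omega)
    push Not at hmin
    set y0 := (u ^ o) ^ (2 ^ i)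
    have hy0 : Commute (oHomEnd Q0 y0) h := by
      have : Commute (oHomEnd Q0 u) h := LinearMap.ext fun a => huS a
      rw [map_pow, map_pow]
      exact (this.pow_left o).pow_left _
    obtain ⟨z, hz, hzA⟩ := hT (oHomEnd Q (φ y0)) (LinearMap.ext fun x => by
        obtain ⟨a, d, rfl⟩ := decompose h2 hv x
        show (φ y0).1 (S (a.1 + d • v)) = S ((φ y0).1 (a.1 + d • v))
        rw [map_add, map_smul, hSv, ← hh a, hφ, hφ, hπ, hπ, map_add, map_sub, map_add, map_smul, hSv, ← hh a,
          ← hh (y0.1 a)]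
        rw [show y0.1 (h a) = h (y0.1 a) from LinearMap.congr_fun hy0.eq a])
      (φ y0).2 (Or.inl (by
        show (φ y0).1 v = v
        have := hπ 0 1
        rw [Submodule.coe_zero, zero_add, one_smul] at this
        rw [hφ, this, map_zero]
        simp)) 1 (one_mul 1) fun x hx hSx => by rw [hfix0 x hx hSx]; simp
    have hzy : z = oHomEnd Q0 y0 := LinearMap.ext fun a => Subtype.ext (by
      rw [hz]
      show (φ y0).1 a.1 = (y0.1 a).1
      rw [hφ, hπa, sub_self, add_zero])
    refine ⟨z, hzA, (hzy ▸ hy0).symm, fun e1 => hmin.1 ?_, fun e1 => hmin.2 ?_, ?_⟩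
    · exact oHomEnd_injective Q0 (by rw [← hzy, e1, map_one])
    · exact oHomEnd_injective Q0 (by rw [← hzy, e1]; exact LinearMap.ext fun x => rfl)
    · rw [hi, pow_succ, pow_mul, pow_two] at hj
      rcases hj with e1 | e1
      · left; rw [hzy, ← map_mul, e1, map_one]
      · right; rw [hzy, ← map_mul, e1]; exact LinearMap.ext fun x => rfl

end Cfsg.Agent.PrimeGraph
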