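import Cfsg.Agent.PrimeGraph.Twist
import Cfsg.Agent.Classical.QuadDecomp

/-!
# Elements of Sp(2n) and of Ω(2n+1) with prescribed order

Semisimple elements of odd order and their centralisers correspond under twisting the forms.
-/

set_option autoImplicit false

namespace Cfsg.Agent.PrimeGraph

open Module QuadraticMap
open Cfsg.Agent.Classical Cfsg.Agent.Classical.Quad

universe u v

variable {F : Type u} [Field F] {V : Type v} [AddCommGroup V] [Module F V]

/-- An isometry of a quadratic form as an endomorphism. -/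
def oHomEnd (Q : QuadraticForm F V) : oG Q →* Module.End F V where
  toFun g := g.1.toLinearMap
  map_one' := rfl
  map_mul' _ _ := rfl

theorem oHomEnd_injective (Q : QuadraticForm F V) : Function.Injective (oHomEnd Q) := fun _ _ h =>
  ext_oG fun x => LinearMap.congr_fun h x

/-- An isometry of a bilinear form as an endomorphism. -/
def spHomEnd (A : LinearMap.BilinForm F V) : Alt.isoGroup A →* Module.End F V where
  toFun g := g.1.toLinearMap
  map_one' := rfl
  map_mul' _ _ := rfl

theorem spHomEnd_injective (A : LinearMap.BilinForm F V) : Function.Injective (spHomEnd A) := fun _ _ h =>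
  Subtype.ext (LinearEquiv.ext fun x => LinearMap.congr_fun h x)

variable [FiniteDimensional F V]

theorem exists_oG {Q : QuadraticForm F V} (hQ : (polarBilin Q).Nondegenerate) {g : Module.End F V}
    (hg : ∀ x, Q (g x) = Q x) : ∃ u : oG Q, oHomEnd Q u = g := by
  have hi : Function.Injective g := (injective_iff_map_eq_zero _).2 fun x hx => eq_zero_of_polar hQ fun y => by
    have h : polar Q (g x) (g y) = polar Q x y := by simp only [polar, ← map_add, hg]
    rw [← h, hx, polar_zero_left]
  exact ⟨⟨LinearEquiv.ofBijective g ⟨hi, LinearMap.injective_iff_surjective.1 hi⟩, hg⟩, rfl⟩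

theorem exists_isoGroup {A : LinearMap.BilinForm F V} (hA : A.Nondegenerate) {g : Module.End F V}
    (hg : Pres A g) : ∃ u : Alt.isoGroup A, spHomEnd A u = g := by
  have hi : Function.Injective g := (injective_iff_map_eq_zero _).2 fun x hx => hA.1 x fun y => by
    rw [← hg, hx, map_zero, LinearMap.zero_apply]
  exact ⟨⟨LinearEquiv.ofBijective g ⟨hi, LinearMap.injective_iff_surjective.1 hi⟩, hg⟩, rfl⟩

theorem nondeg_alt {A : LinearMap.BilinForm F V} (hA : A.IsAlt) (h : ∀ x, (∀ z, A x z = 0) → x = 0) :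
    A.Nondegenerate :=
  ⟨fun x hx => h x hx, fun x hx => h x fun z => by rw [Alt.neg' hA z x, hx, neg_zero]⟩

theorem mem_center_iff [Nontrivial V] {A : LinearMap.BilinForm F V} (hA : A.IsAlt) (hA' : A.Nondegenerate)
    (g : Alt.isoGroup A) : g ∈ Subgroup.center (Alt.isoGroup A) ↔ spHomEnd A g = 1 ∨ spHomEnd A g = -1 := by
  constructor
  · intro hg
    obtain ⟨⟨a, ha⟩, h⟩ := (Alt.scalarE_bijective hA hA').2 ⟨g, hg⟩
    have h' : ∀ x, g.1 x = (a : F) • x := fun x => by
      rw [← congrArg (fun t : Subgroup.center (Alt.isoGroup A) => t.1.1 x) h]; rfl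
    rcases sq_eq_one_iff.1 (Alt.center_sq hA hA' h') with e | e
    · exact Or.inl (LinearMap.ext fun x => by show g.1 x = x; rw [h', e, one_smul])
    · exact Or.inr (LinearMap.ext fun x => by show g.1 x = -x; rw [h', e, neg_one_smul])
  · rintro (h | h) <;> refine Subgroup.mem_center_iff.2 fun k => spHomEnd_injective A ?_ <;>
      simp [h]

section orders

variable [Finite F] [Finite V] {Q : QuadraticForm F V}

theorem units_odd {x : ℤˣ} {m : ℕ} (hm : Odd m) (h : x ^ m = 1) : x = 1 := by
  rcases Int.units_eq_one_or x with rfl | rfl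
  · rfl
  · rw [hm.neg_one_pow] at h; exact h

/-- Elements of odd order lie in the commutator subgroup. -/
theorem odd_mem_commutator (hQ : (polarBilin Q).Nondegenerate) (h2 : (2 : F) ≠ 0) (hn : 2 ≤ finrank F V)
    (g : oG Q) {m : ℕ} (hm : Odd m) (hg : g ^ m = 1) : g ∈ commutator (oG Q) := by
  rw [mem_commutator_iff hQ h2 hn]
  exact ⟨units_odd hm (by rw [← map_pow, hg, map_one]), units_odd hm (by rw [← map_pow, hg, map_one])⟩

/-- An element of order `p` supported on a non-degenerate subspace of dimension at least three. -/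
theorem exists_p_on (hQ : (polarBilin Q).Nondegenerate) (h2 : (2 : F) ≠ 0) (p : ℕ) [Fact p.Prime] [CharP F p]
    (B : Submodule F V) (hB : (polarBilin (Q.comp B.subtype)).Nondegenerate) (h3 : 3 ≤ finrank F B) :
    ∃ u : oG Q, orderOf u = p ∧ ∀ S : Module.End F V, (∀ x, Q (S x) = Q x) → (∀ b ∈ B, S b = b) →
      Commute (oHomEnd Q u) S := by
  obtain ⟨a, ha0, ha⟩ := exists_singular (Q.comp B.subtype) h3
  let K : Submodule F B := LinearMap.ker (polarBilin (Q.comp B.subtype) a)
  obtain ⟨w, hwK, hw⟩ : ∃ w ∈ K, w ∉ Submodule.span F ({a} : Set B) := by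
    refine Set.not_subset.1 fun hle => ?_
    have h1 := Submodule.finrank_mono (show K ≤ Submodule.span F ({a} : Set B) from hle)
    rw [finrank_span_singleton ha0] at h1
    have h4 : finrank F (LinearMap.range (polarBilin (Q.comp B.subtype) a)) + finrank F K = finrank F B :=
      LinearMap.finrank_range_add_finrank_ker (polarBilin (Q.comp B.subtype) a)
    have h5 := (LinearMap.range (polarBilin (Q.comp B.subtype) a)).finrank_le
    rw [finrank_self] at h5
    change finrank F K ≤ 1 at h1
    omega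
  have haw : polar (Q.comp B.subtype) a w = 0 := hwK
  let g := sO ha haw
  have hpow : ∀ k : ℕ, g ^ k = sO ha (polar_perp_smul haw (k : F)) := by
    intro k
    induction k with
    | zero => rw [pow_zero, sO_congr ha _ (by simp [polar]) (by simp : ((0 : ℕ) : F) • w = 0), sO_zero]
    | succ k ih =>
      rw [pow_succ, ih, sO_mul]
      exact sO_congr ha _ _ (by rw [Nat.cast_succ, add_smul, one_smul])
  have hgp : g ^ p = 1 := by
    rw [hpow, sO_congr ha _ (by simp [polar]) (by simp : (p : F) • w = 0), sO_zero]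
  have hg1 : g ≠ 1 := by
    intro h
    obtain ⟨x, hx⟩ : ∃ x, polar (Q.comp B.subtype) x a ≠ 0 := by
      by_contra hcon
      push Not at hcon
      exact ha0 (eq_zero_of_polar hB fun y => by rw [polar_comm]; exact hcon y)
    have h1 := congrArg (fun u : oG (Q.comp B.subtype) => u.1 x) h
    simp only [g, sO_apply, oG_one_apply] at h1
    refine hw ((Submodule.smul_mem_iff _ (neg_ne_zero.2 hx)).1 ?_)
    rw [Submodule.mem_span_singleton]
    refine ⟨-(polar (Q.comp B.subtype) x w) + (Q.comp B.subtype) w * polar (Q.comp B.subtype) x a, ?_⟩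
    linear_combination (norm := module) -h1
  obtain ⟨π, φ, hπ, hπu, hφ, -⟩ := AutPOmega.exists_extend hQ h2 B hB
  have hπb : ∀ b : B, π b.1 = b := fun b => hπu _ _ fun _ => rfl
  refine ⟨φ g, orderOf_eq_prime (by rw [← map_pow, hgp, map_one]) fun h => hg1 ?_, fun S hS hSB => ?_⟩
  · refine ext_oG fun b => Subtype.ext ?_
    have h1 := congrArg (fun u : oG Q => u.1 b.1) h
    simp only [hφ, hπb, sub_self, add_zero, oG_one_apply] at h1
    exact h1
  · refine LinearMap.ext fun x => ?_
    have hπS : π (S x) = π x := hπu _ _ fun b => by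
      rw [hπ]
      conv_rhs => rw [← hSB b.1 b.2]
      simp only [polar, ← map_add, hS]
    show (φ g).1 (S x) = S ((φ g).1 x)
    rw [hφ, hφ, hπS, map_add, map_sub, hSB _ (g.1 (π x)).2, hSB _ (π x).2]

end orders

section transfer

variable [Finite F] (h2 : (2 : F) ≠ 0)

include h2 in
/-- From a symplectic to an orthogonal space. -/
theorem sp_to_orth {A : LinearMap.BilinForm F V} (hA : A.IsAlt) (hA' : A.Nondegenerate) {S : Module.End F V}
    (hS : Pres A S) {m : ℕ} (hm : Odd m) (hmF : (m : F) ≠ 0) (hSm : S ^ m = 1) :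
    ∃ Q : QuadraticForm F (V × F), (polarBilin Q).Nondegenerate ∧
      (∀ g : Module.End F V, Commute g S → Pres A g → (∀ x, S x = x → g x = x) →
        ∀ v : V × F, Q (g.prodMap LinearMap.id v) = Q v) ∧
      (polarBilin (Q.comp ((LinearMap.ker (S - 1)).prod (⊤ : Submodule F F)).subtype)).Nondegenerate := by
  obtain ⟨P, hP⟩ := exists_isAvg A hS hmF hSm
  obtain ⟨D, hDs, hDP, hDn⟩ := exists_symm_on P fun x => hP.of_fix _ (hP.fixes x)
  have hsym : ∀ x z, twistForm A D S m z x = twistForm A D S m x z := fun x z => by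
    rw [twist_flip hS hm hSm (c := -1) (by ring) (fun a b => by rw [Alt.neg' hA a b]; ring) (fun a b => by rw [hDs a b]; ring)]
    ring
  have hnd := twist_nondeg hP hm hSm hA'.1 hDP hDn
  let Q : QuadraticForm F (V × F) := (LinearMap.BilinMap.toQuadraticMap (twistForm A D S m)).prod (sqForm F)
  have hQv : ∀ v : V × F, Q v = twistForm A D S m v.1 v.1 + v.2 * v.2 := fun v => by simp [Q, sqForm]
  have hpol : ∀ v w : V × F, polar Q v w = 2 * (twistForm A D S m v.1 w.1 + v.2 * w.2) := fun v w => by
    simp only [polar, hQv, Prod.fst_add, Prod.snd_add, map_add, LinearMap.add_apply, hsym v.1 w.1]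
    ring
  have hQ : (polarBilin Q).Nondegenerate := nondeg_of fun v hv => by
    have h1 : v.1 = 0 := hnd _ fun z => by
      have := hv (z, 0)
      rw [hpol] at this
      simpa [h2] using this
    have := hv (0, 1)
    rw [hpol] at this
    exact Prod.ext h1 (by simpa [h2] using this)
  refine ⟨Q, hQ, fun g hgS hg hfix v => ?_, nondeg_of fun v hv => Subtype.ext (eq_zero_of_polar hQ fun w => ?_)⟩
  · rw [hQv, hQv]
    have hPg : ∀ x, P (g x) = P x := fun x => by
      rw [← Module.End.mul_apply, ← (hP.comm g hgS).eq, Module.End.mul_apply, hfix _ (hP.fixes x)]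
    simp only [LinearMap.prodMap_apply, LinearMap.id_apply]
    rw [twist_pres hgS hg fun x z => by rw [← hDP, hPg, hPg, hDP]]
  · have hv1 : P v.1.1 = v.1.1 := by
      refine hP.of_fix _ ?_
      have := v.2.1
      rwa [SetLike.mem_coe, LinearMap.mem_ker, LinearMap.sub_apply, Module.End.one_apply, sub_eq_zero] at this
    have h1 := hv ⟨(P w.1, w.2), ⟨by
      rw [SetLike.mem_coe, LinearMap.mem_ker, LinearMap.sub_apply, hP.fixes, Module.End.one_apply, sub_self],
      trivial⟩⟩
    change polar Q v.1 (P w.1, w.2) = 0 at h1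
    rw [hpol] at h1 ⊢
    have key : ∀ z, twistForm A D S m v.1.1 z = D v.1.1 z := fun z => by
      rw [hsym, ← hv1, twist_fix hP, hDs]
    rw [key] at h1 ⊢
    rw [← hDP v.1.1 w.1]
    rw [← hDP v.1.1 (P w.1), hP.of_fix _ (hP.fixes w.1)] at h1
    exact h1

include h2 in
/-- From an orthogonal to a symplectic space. -/
theorem orth_to_sp {Q : QuadraticForm F V} (hQ : (polarBilin Q).Nondegenerate) {n : ℕ}
    (hV : finrank F V = 2 * n + 1) {S : Module.End F V} (hS : ∀ x, Q (S x) = Q x) {m : ℕ} (hm : Odd m)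
    (hmF : (m : F) ≠ 0) (hSm : S ^ m = 1) :
    ∃ v : V, Q v ≠ 0 ∧ S v = v ∧ ∃ A : LinearMap.BilinForm F (LinearMap.ker (polarBilin Q v)),
      A.IsAlt ∧ A.Nondegenerate ∧ finrank F (LinearMap.ker (polarBilin Q v)) = 2 * n ∧
      (polarBilin (Q.comp (LinearMap.ker (polarBilin Q v)).subtype)).Nondegenerate ∧
      ∀ g : Module.End F V, Commute g S → (∀ x, Q (g x) = Q x) → (g v = v ∨ g v = -v) → ∀ ε : F, ε * ε = 1 →
        (∀ x, polar Q v x = 0 → S x = x → g x = ε • x) →
        ∃ h : Module.End F (LinearMap.ker (polarBilin Q v)), (∀ a, (h a).1 = g a.1) ∧ Pres A h := by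
  have hSp : Pres (polarBilin Q) S := fun x z => by simp only [polarBilin_apply_apply, polar, ← map_add, hS]
  obtain ⟨P, hP⟩ := exists_isAvg (polarBilin Q) hSp hmF hSm
  obtain ⟨k, hk⟩ := even_moved h2 hP hSp hm hSm (fun x y => polar_comm Q y x) hQ.1
  have hWn : (polarBilin (Q.comp (LinearMap.range P).subtype)).Nondegenerate := nondeg_of fun w hw => by
    obtain ⟨_, x, rfl⟩ := w
    refine Subtype.ext (eq_zero_of_polar hQ fun z => ?_)
    rw [← polarBilin_apply_apply, hP.left x z]
    exact hw ⟨P z, z, rfl⟩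
  obtain ⟨⟨v, x₀, hx₀⟩, hv⟩ := exists_aniso hWn (by omega)
  change Q v ≠ 0 at hv
  have hSv : S v = v := hx₀ ▸ hP.fixes x₀
  have hvv : polar Q v v ≠ 0 := by rw [polar_self']; exact mul_ne_zero h2 hv
  set V0 := LinearMap.ker (polarBilin Q v) with hV0
  have hmem : ∀ x, x ∈ V0 ↔ polar Q v x = 0 := fun x => Iff.rfl
  have hdim : finrank F V0 = 2 * n := by
    have h1 := LinearMap.finrank_range_add_finrank_ker (polarBilin Q v)
    have h3 : finrank F (LinearMap.range (polarBilin Q v)) = 1 := by
      refine le_antisymm ((Submodule.finrank_le _).trans (finrank_self F).le) ?_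
      rw [Submodule.one_le_finrank_iff]
      intro h
      exact hvv (LinearMap.congr_fun (LinearMap.range_eq_bot.1 h) v)
    change finrank F (LinearMap.range (polarBilin Q v)) + finrank F V0 = _ at h1
    omega
  have hSV : ∀ x ∈ V0, S x ∈ V0 := fun x hx => by
    rw [hmem] at hx ⊢
    rw [← hSv, ← polarBilin_apply_apply, hSp, polarBilin_apply_apply, hx]
  let Q0 := Q.comp V0.subtype
  have hQ0 : (polarBilin Q0).Nondegenerate := nondeg_of fun a ha => Subtype.ext (eq_zero_of_polar hQ fun z => by
    have ha' := (hmem _).1 a.2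
    have h1 := ha ⟨z - (polar Q v z / polar Q v v) • v, (hmem _).2 (by
      rw [polar_sub_right, polar_smul_right, smul_eq_mul, div_mul_cancel₀ _ hvv, sub_self])⟩
    change polar Q a.1 (z - (polar Q v z / polar Q v v) • v) = 0 at h1
    rwa [polar_sub_right, polar_smul_right, polar_comm Q a.1 v, ha', smul_zero, sub_zero] at h1)
  let S0 : Module.End F V0 := S.restrict hSV
  have hS0pow : ∀ (i : ℕ) (a : V0), ((S0 ^ i) a).1 = (S ^ i) a.1 := fun i => by
    induction i with
    | zero => exact fun a => rfl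
    | succ i ih => exact fun a => by rw [pow_succ, pow_succ, Module.End.mul_apply, Module.End.mul_apply, ih]; rfl
  have hS0m : S0 ^ m = 1 := LinearMap.ext fun a => Subtype.ext (by rw [hS0pow, hSm]; rfl)
  have hS0p : Pres (polarBilin Q0) S0 := fun a b => hSp a.1 b.1
  obtain ⟨P0, hP0⟩ := exists_isAvg (polarBilin Q0) hS0p hmF hS0m
  obtain ⟨k0, hk0⟩ := even_moved h2 hP0 hS0p hm hS0m (fun x y => polar_comm Q0 y x) hQ0.1
  rw [hdim] at hk0
  obtain ⟨D, hDa, hDP, hDn⟩ := exists_alt_on P0 (fun x => hP0.of_fix _ (hP0.fixes x)) (k := n - k0) (by omega)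
  have hDflip : ∀ a b, D b a = -1 * D a b := fun a b => by rw [Alt.neg' (B := D) hDa a b]; ring
  let A := twistForm (polarBilin Q0) D S0 m
  have hflip := twist_flip hS0p hm hS0m (c := 1) (one_mul 1)
    (fun a b => by rw [one_mul]; exact polar_comm Q0 b a) hDflip
  have hA : A.IsAlt := fun a => by
    have := hflip a a
    exact (mul_eq_zero.1 (by linear_combination this : (2 : F) * A a a = 0)).resolve_left h2
  refine ⟨v, hv, hSv, A, hA, nondeg_alt hA (twist_nondeg hP0 hm hS0m hQ0.1 hDP hDn), hdim, hQ0,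
    fun g hgS hg hgv ε hε hfix => ?_⟩
  have hgp : ∀ x z, polar Q (g x) (g z) = polar Q x z := fun x z => by simp only [polar, ← map_add, hg]
  have hgV : ∀ x ∈ V0, g x ∈ V0 := fun x hx => by
    rw [hmem] at hx ⊢
    rcases hgv with e | e
    · rw [← e, hgp, hx]
    · rw [← neg_neg (polar Q v (g x)), ← polar_neg_left, ← e, hgp, hx, neg_zero]
  refine ⟨g.restrict hgV, fun a => rfl, twist_pres ?_ (fun a b => hgp a.1 b.1) fun a b => ?_⟩
  · exact LinearMap.ext fun a => Subtype.ext (LinearMap.congr_fun hgS.eq a.1)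
  · have hPg : ∀ a, P0 (g.restrict hgV a) = ε • P0 a := fun a => by
      have hc : Commute (g.restrict hgV) S0 :=
        LinearMap.ext fun a => Subtype.ext (LinearMap.congr_fun hgS.eq a.1)
      rw [← Module.End.mul_apply, ← (hP0.comm _ hc).eq, Module.End.mul_apply]
      exact Subtype.ext (hfix _ ((hmem _).1 (P0 a).2) (congrArg Subtype.val (hP0.fixes a)))
    rw [← hDP, hPg, hPg]
    simp only [map_smul, LinearMap.smul_apply, smul_eq_mul]
    rw [← mul_assoc, hε, one_mul, hDP]

end transfer

end Cfsg.Agent.PrimeGraph
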