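import Cfsg.Agent.AutPOmega.SemisimpleSpin
import Cfsg.Agent.Classical.AltBasis
import Cfsg.Agent.Classical.SympGroup
import Cfsg.Agent.Classical.OrthMat

/-!
# Twisting a form by a semisimple isometry

For an isometry `S` of odd order prime to the characteristic, `B ((S - S⁻¹) x) z` has the opposite symmetry to `B`
and is non-degenerate away from the fixed space.
-/

set_option autoImplicit false

namespace Cfsg.Agent.PrimeGraph

open Module LinearMap

variable {F : Type*} [Field F] {V : Type*} [AddCommGroup V] [Module F V]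

/-- `g` preserves `B`. -/
def Pres (B : LinearMap.BilinForm F V) (g : Module.End F V) : Prop := ∀ x z, B (g x) (g z) = B x z

theorem Pres.mul {B : LinearMap.BilinForm F V} {g h : Module.End F V} (hg : Pres B g) (hh : Pres B h) :
    Pres B (g * h) := fun x z => by rw [Module.End.mul_apply, Module.End.mul_apply, hg, hh]

theorem Pres.pow {B : LinearMap.BilinForm F V} {g : Module.End F V} (hg : Pres B g) : ∀ k : ℕ, Pres B (g ^ k)
  | 0 => fun _ _ => rfl
  | k + 1 => by rw [pow_succ]; exact (Pres.pow hg k).mul hg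

theorem pow_apply_fix {g : Module.End F V} {x : V} (hx : g x = x) : ∀ k : ℕ, (g ^ k) x = x
  | 0 => rfl
  | k + 1 => by rw [pow_succ, Module.End.mul_apply, hx, pow_apply_fix hx k]

/-- The averaging projection onto the fixed vectors. -/
structure IsAvg (B : LinearMap.BilinForm F V) (S P : Module.End F V) : Prop where
  fixes : ∀ x, S (P x) = P x
  of_fix : ∀ x, S x = x → P x = x
  absorb : ∀ x, P (S x) = P x
  left : ∀ x z, B (P x) z = B (P x) (P z)
  right : ∀ x z, B x (P z) = B (P x) (P z)
  comm : ∀ g : Module.End F V, Commute g S → Commute g P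

theorem exists_isAvg (B : LinearMap.BilinForm F V) {S : Module.End F V} (hS : Pres B S) {m : ℕ}
    (hmF : (m : F) ≠ 0) (hSm : S ^ m = 1) : ∃ P, IsAvg B S P := by
  let P : Module.End F V := (m : F)⁻¹ • ∑ i ∈ Finset.range m, S ^ i
  have hP : ∀ x, P x = (m : F)⁻¹ • ∑ i ∈ Finset.range m, (S ^ i) x := fun x => by simp [P]
  have h1 : S * P = P := by
    have h := mul_geom_sum S m
    rw [hSm, sub_self, sub_mul, one_mul, sub_eq_zero] at h
    simp only [P, mul_smul_comm, h]
  have h3 : P * S = P := by
    have h := geom_sum_mul S m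
    rw [hSm, sub_self, mul_sub, mul_one, sub_eq_zero] at h
    simp only [P, smul_mul_assoc, h]
  have h2 : ∀ x, S x = x → P x = x := fun x hx => by
    rw [hP, Finset.sum_congr rfl fun i _ => pow_apply_fix hx i, Finset.sum_const, Finset.card_range,
      ← Nat.cast_smul_eq_nsmul F, smul_smul, inv_mul_cancel₀ hmF, one_smul]
  have hav : ∀ C : LinearMap.BilinForm F V, Pres C S → ∀ x z, C (P x) z = C (P x) (P z) := fun C hC x z => by
    have hi : ∀ i : ℕ, C (P x) ((S ^ i) z) = C (P x) z := fun i => by
      calc C (P x) ((S ^ i) z) = C ((S ^ i) (P x)) ((S ^ i) z) := by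
            rw [pow_apply_fix (show S (P x) = P x from LinearMap.congr_fun h1 x) i]
        _ = _ := hC.pow i _ _
    conv_rhs => rw [hP z, map_smul, map_sum, Finset.sum_congr rfl fun i _ => hi i, Finset.sum_const,
      Finset.card_range, ← Nat.cast_smul_eq_nsmul F, smul_smul, inv_mul_cancel₀ hmF, one_smul]
  refine ⟨P, LinearMap.congr_fun h1, h2, LinearMap.congr_fun h3, hav B hS, fun x z => ?_, fun g hg => ?_⟩
  · exact hav B.flip (fun a b => hS b a) z x
  · exact (Commute.sum_right _ _ _ fun i _ => hg.pow_right i).smul_right _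

/-- A symmetric form non-degenerate on the image of a projection. -/
theorem exists_symm_on [FiniteDimensional F V] (P : Module.End F V) (hPP : ∀ x, P (P x) = P x) :
    ∃ D : LinearMap.BilinForm F V, (∀ x z, D z x = D x z) ∧ (∀ x z, D (P x) (P z) = D x z) ∧
      ∀ x, (∀ z, D x (P z) = 0) → P x = 0 := by
  classical
  let b := Module.finBasis F (LinearMap.range P)
  let L : V →ₗ[F] (Fin (finrank F (LinearMap.range P)) → F) := b.equivFun.toLinearMap ∘ₗ P.rangeRestrict
  let D : LinearMap.BilinForm F V :=
    (Matrix.toBilin' (1 : Matrix (Fin (finrank F (LinearMap.range P))) (Fin (finrank F (LinearMap.range P))) F)).comp L L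
  have hLP : ∀ x, L (P x) = L x := fun x => congrArg b.equivFun (Subtype.ext (hPP x))
  have hD : ∀ x z, D x z = ∑ i, L x i * L z i := fun x z => by
    simp [D, Matrix.toBilin'_apply', dotProduct]
  refine ⟨D, fun x z => by simp [hD, mul_comm], fun x z => by simp [hD, hLP], fun x hx => ?_⟩
  suffices P.rangeRestrict x = 0 from congrArg Subtype.val this
  refine b.equivFun.injective ?_
  rw [map_zero]
  funext i
  obtain ⟨z, hz⟩ := (b i).2
  have hi : L z = Pi.single i 1 := by
    show b.equivFun ⟨P z, _⟩ = _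
    rw [show (⟨P z, LinearMap.mem_range_self P z⟩ : LinearMap.range P) = b i from Subtype.ext hz]
    funext j
    simp [Finsupp.single_apply, Pi.single_apply, eq_comm]
  have h := hx z
  rw [hD, hLP, hi] at h
  simpa [L, Pi.single_apply] using h

/-- An alternating form non-degenerate on the image of a projection of even rank. -/
theorem exists_alt_on [FiniteDimensional F V] (P : Module.End F V) (hPP : ∀ x, P (P x) = P x) {k : ℕ}
    (hk : finrank F (LinearMap.range P) = 2 * k) :
    ∃ D : LinearMap.BilinForm F V, (∀ x, D x x = 0) ∧ (∀ x z, D (P x) (P z) = D x z) ∧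
      ∀ x, (∀ z, D x (P z) = 0) → P x = 0 := by
  have e : LinearMap.range P ≃ₗ[F] (Fin k ⊕ Fin k → F) :=
    LinearEquiv.ofFinrankEq _ _ (by rw [hk, Classical.finrank_symp])
  let L : V →ₗ[F] (Fin k ⊕ Fin k → F) := e.toLinearMap ∘ₗ P.rangeRestrict
  have hLP : ∀ x, L (P x) = L x := fun x => congrArg e (Subtype.ext (hPP x))
  refine ⟨(Classical.sympB k F).comp L L, fun x => Classical.sympB_isAlt (L x), fun x z => by simp [hLP],
    fun x hx => ?_⟩
  suffices P.rangeRestrict x = 0 from congrArg Subtype.val this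
  refine e.injective ?_
  rw [map_zero]
  refine (Classical.sympB_nondeg (m := k) (F := F)).1 _ fun w => ?_
  obtain ⟨⟨_, z, rfl⟩, rfl⟩ := e.surjective w
  have h := hx z
  simp only [LinearMap.BilinForm.comp_apply, hLP] at h
  exact h

/-- The twisted form. -/
def twistForm (B D : LinearMap.BilinForm F V) (S : Module.End F V) (m : ℕ) : LinearMap.BilinForm F V :=
  B.comp (S - S ^ (m - 1)) LinearMap.id + D

theorem twistForm_apply (B D : LinearMap.BilinForm F V) (S : Module.End F V) (m : ℕ) (x z : V) :
    twistForm B D S m x z = B (S x - (S ^ (m - 1)) x) z + D x z := rfl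

section twist

variable {B D : LinearMap.BilinForm F V} {S P : Module.End F V} {m : ℕ}

theorem S_inv (hm : Odd m) (hSm : S ^ m = 1) (x : V) :
    S ((S ^ (m - 1)) x) = x ∧ (S ^ (m - 1)) (S x) = x := by
  have e : m - 1 + 1 = m := Nat.sub_add_cancel hm.pos
  refine ⟨?_, ?_⟩
  · rw [← Module.End.mul_apply, ← pow_succ', e, hSm, Module.End.one_apply]
  · rw [← Module.End.mul_apply, ← pow_succ, e, hSm, Module.End.one_apply]

theorem twist_flip (hS : Pres B S) (hm : Odd m) (hSm : S ^ m = 1) {c : F} (hcc : c * c = 1)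
    (hc : ∀ x y, B y x = c * B x y) (hD : ∀ x y, D y x = -c * D x y) (x z : V) :
    twistForm B D S m z x = -c * twistForm B D S m x z := by
  have h1 : B (S z) x = c * B ((S ^ (m - 1)) x) z := by
    rw [← hS.pow (m - 1) (S z) x, (S_inv hm hSm z).2, hc ((S ^ (m - 1)) x) z]
  have h2 : B ((S ^ (m - 1)) z) x = c * B (S x) z := by
    rw [← hS ((S ^ (m - 1)) z) x, (S_inv hm hSm z).1, hc (S x) z]
  rw [twistForm_apply, twistForm_apply, hD x z, map_sub, map_sub, LinearMap.sub_apply, LinearMap.sub_apply, h1, h2]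
  ring

theorem twist_pres {g : Module.End F V} (hgS : Commute g S) (hg : Pres B g) (hgD : ∀ x z, D (g x) (g z) = D x z) :
    Pres (twistForm B D S m) g := fun x z => by
  rw [twistForm_apply, twistForm_apply, hgD, ← hg (S x - (S ^ (m - 1)) x) z]
  congr 2
  rw [map_sub g, ← Module.End.mul_apply, ← Module.End.mul_apply, ← hgS.eq, ← (hgS.pow_right (m - 1)).eq]
  rfl

theorem P_sub (hP : IsAvg B S P) (x : V) : P (S x - (S ^ (m - 1)) x) = 0 := by
  have : ∀ i x, P ((S ^ i) x) = P x := fun i => by
    induction i with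
    | zero => exact fun x => rfl
    | succ i ih => intro x; rw [pow_succ, Module.End.mul_apply, ih, hP.absorb]
  rw [map_sub, hP.absorb, this, sub_self]

theorem twist_fix (hP : IsAvg B S P) (x z : V) : twistForm B D S m x (P z) = D x (P z) := by
  rw [twistForm_apply, hP.right, P_sub hP, map_zero, LinearMap.zero_apply, zero_add]

theorem fix_of_kill (hm : Odd m) (hSm : S ^ m = 1) (hB : ∀ x, (∀ z, B x z = 0) → x = 0) {x : V}
    (hx : ∀ z, B (S x - (S ^ (m - 1)) x) z = 0) : S x = x := by
  have h1 : S x = (S ^ (m - 1)) x := sub_eq_zero.1 (hB _ hx)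
  have h2 : (S ^ 2) x = x := by rw [pow_two, Module.End.mul_apply, h1, (S_inv hm hSm x).1]
  obtain ⟨j, rfl⟩ := hm
  conv_rhs => rw [← Module.End.one_apply (R := F) x, ← hSm, pow_succ', pow_mul, Module.End.mul_apply, pow_apply_fix h2]

theorem twist_nondeg (hP : IsAvg B S P) (hm : Odd m) (hSm : S ^ m = 1) (hB : ∀ x, (∀ z, B x z = 0) → x = 0)
    (hDP : ∀ x z, D (P x) (P z) = D x z) (hDn : ∀ x, (∀ z, D x (P z) = 0) → P x = 0) (x : V)
    (hx : ∀ z, twistForm B D S m x z = 0) : x = 0 := by
  have hPx : P x = 0 := hDn x fun z => by rw [← twist_fix hP, hx]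
  have hD0 : ∀ z, D x z = 0 := fun z => by rw [← hDP, hPx, map_zero, LinearMap.zero_apply]
  have h := hP.of_fix x (fix_of_kill hm hSm hB fun z => by
    have := hx z
    rwa [twistForm_apply, hD0, add_zero] at this)
  rw [← h, hPx]

/-- The rank of the fixed space of an isometry of odd order of a symmetric form has the parity of the dimension. -/
theorem even_moved [FiniteDimensional F V] (h2 : (2 : F) ≠ 0) (hP : IsAvg B S P) (hS : Pres B S) (hm : Odd m)
    (hSm : S ^ m = 1) (hsymm : ∀ x y, B y x = B x y) (hB : ∀ x, (∀ z, B x z = 0) → x = 0) :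
    ∃ k, finrank F V = finrank F (LinearMap.range P) + 2 * k := by
  have hflip := twist_flip (D := 0) hS hm hSm (c := 1) (one_mul 1) (fun x y => by rw [one_mul, hsymm]) (by simp)
  have hA : (twistForm B 0 S m).IsAlt := fun x => by
    have := hflip x x
    exact (mul_eq_zero.1 (by linear_combination this : (2 : F) * twistForm B 0 S m x x = 0)).resolve_left h2
  have hnd : Classical.Alt.NDon (twistForm B 0 S m) (LinearMap.ker P) := fun w hw hw0 => by
    by_contra hcon
    push Not at hcon
    refine hw0 ((hP.of_fix w (fix_of_kill hm hSm hB fun z => ?_)).symm.trans hw)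
    have h1 := hcon (z - P z) (by rw [LinearMap.mem_ker, map_sub, hP.of_fix (P z) (hP.fixes z), sub_self])
    rw [map_sub, twist_fix hP, LinearMap.zero_apply, LinearMap.zero_apply, sub_zero, twistForm_apply] at h1
    simpa using h1
  obtain ⟨k, e, f, -, hk⟩ := Classical.Alt.exists_sympBasis hA _ hnd
  exact ⟨k, by rw [← hk, LinearMap.finrank_range_add_finrank_ker]⟩

end twist

end Cfsg.Agent.PrimeGraph
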